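import Groth.Agent.H24.GrpLim.ThetaNat
import Groth.Agent.S0591

/-!
# A finitely presented group scheme over a cofiltered limit descends to a stage (helper24)
-/

set_option autoImplicit false
universe v₁ u₁ u
open CategoryTheory CategoryTheory.Limits MonoidalCategory CartesianMonoidalCategory MonObj GrpObj
  AlgebraicGeometry

namespace Groth.Agent.H24.GrpLim

section cat
variable {C : Type u₁} [Category.{v₁} C] [CartesianMonoidalCategory C]

theorem PreGrp.ofIso_ofIso {X Y Z : C} (P : PreGrp X) (e : X ≅ Y) (e' : Y ≅ Z) :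
    (P.ofIso e).ofIso e' = P.ofIso (e ≪≫ e') := by
  ext
  · simp only [PreGrp.ofIso, Iso.trans_hom, Iso.trans_inv, Category.assoc]
    rw [MonoidalCategory.tensorHom_comp_tensorHom_assoc]
  · simp only [PreGrp.ofIso, Iso.trans_hom, Category.assoc]
  · simp only [PreGrp.ofIso, Iso.trans_hom, Iso.trans_inv, Category.assoc]

theorem isMonHom_of_ofGrpObj_eq {X Y : C} [GrpObj X] [GrpObj Y] (e : X ≅ Y)
    (h : PreGrp.ofGrpObj Y = (PreGrp.ofGrpObj X).ofIso e) : IsMonHom e.hom where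
  one_hom := by
    have := congrArg PreGrp.one h
    simp only [PreGrp.ofGrpObj, PreGrp.ofIso] at this
    exact this.symm
  mul_hom := by
    have := congrArg PreGrp.mul h
    simp only [PreGrp.ofGrpObj, PreGrp.ofIso] at this
    rw [this, MonoidalCategory.tensorHom_comp_tensorHom_assoc]
    simp

end cat

section ev
variable {I : Type u} [SmallCategory I] [IsCofiltered I] {i₁ : I}

/-- "eventually" for predicates on the stages over `i₁` -/
def Ev (P : ∀ k : I, (k ⟶ i₁) → Prop) : Prop :=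
  ∃ (i : I) (g : i ⟶ i₁), ∀ (k : I) (g' : k ⟶ i), P k (g' ≫ g)

theorem Ev.and {P Q : ∀ k : I, (k ⟶ i₁) → Prop} (hP : Ev P) (hQ : Ev Q) :
    Ev (fun k g => P k g ∧ Q k g) := by
  obtain ⟨i, g, h⟩ := hP
  obtain ⟨i', g', h'⟩ := hQ
  obtain ⟨w, a, b, hab⟩ := IsCofiltered.cospan g g'
  refine ⟨w, a ≫ g, fun k g'' => ⟨?_, ?_⟩⟩
  · rw [← Category.assoc]; exact h k (g'' ≫ a)
  · rw [hab, ← Category.assoc]; exact h' k (g'' ≫ b)

theorem Ev.exists {P : ∀ k : I, (k ⟶ i₁) → Prop} (hP : Ev P) : ∃ (k : I) (g : k ⟶ i₁), P k g := by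
  obtain ⟨i, g, h⟩ := hP
  exact ⟨i, g, by simpa using h i (𝟙 i)⟩

end ev

section main
variable {I : Type u} [SmallCategory I] [IsCofiltered I]
    (D : I ⥤ Scheme.{u}) (c : Limits.Cone D) (hc : Limits.IsLimit c)
    [∀ (i i' : I) (f : i ⟶ i'), IsAffineHom (D.map f)]

include hc in
/-- Fullness in the limit, valid at all later stages, with a free name for the composite. -/
theorem exists_map_eq_conj'' {j : I} (G H : Over (D.obj j))
    [CompactSpace G.left] [QuasiSeparatedSpace G.left] [LocallyOfFinitePresentation G.hom]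
    [CompactSpace H.left] [QuasiSeparatedSpace H.left] [LocallyOfFinitePresentation H.hom]
    (u : Red.bc (c.π.app j) G ⟶ Red.bc (c.π.app j) H) :
    ∃ (i : I) (f : i ⟶ j), ∀ (k : I) (g : k ⟶ i) (f' : k ⟶ j), f' = g ≫ f →
      ∃ uk : Red.bc (D.map f') G ⟶ Red.bc (D.map f') H,
        (Over.pullback (c.π.app k)).map uk =
          (thetaIso D c f' G).hom ≫ u ≫ (thetaIso D c f' H).inv := by
  obtain ⟨i, f, h⟩ := exists_map_eq_conj' D c hc G H u
  refine ⟨i, f, fun k g f' hf' => ?_⟩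
  subst hf'
  exact h k g

variable [∀ i, CompactSpace (D.obj i)] [∀ i, QuasiSeparatedSpace (D.obj i)]

open Functor.LaxMonoidal Functor.Monoidal in
include hc in
theorem exists_grpObj_stage {j : I} (X : Over (D.obj j))
    [LocallyOfFinitePresentation X.hom] [QuasiCompact X.hom] [QuasiSeparated X.hom]
    (Q : PreGrp (Red.bc (c.π.app j) X)) (hQ : Q.IsGrp) :
    ∃ (k : I) (Gk : Over (D.obj k)) (_ : GrpObj Gk)
      (e : Red.bc (c.π.app j) X ≅ Red.bc (c.π.app k) Gk),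
      PreGrp.ofGrpObj (Red.bc (c.π.app k) Gk) = Q.ofIso e ∧
        LocallyOfFinitePresentation Gk.hom ∧ QuasiCompact Gk.hom ∧ QuasiSeparated Gk.hom := by
  let Φj := Over.pullback (c.π.app j)
  -- instances at stage `j`
  haveI : CompactSpace ↥X.left := QuasiCompact.compactSpace_of_compactSpace X.hom
  haveI : QuasiSeparatedSpace ↥X.left := quasiSeparatedSpace_of_quasiSeparated X.hom
  obtain ⟨t1, t2, t3⟩ := tensor_instances X X
  haveI := t1; haveI := t2; haveI := t3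
  haveI : CompactSpace ↥(X ⊗ X).left := QuasiCompact.compactSpace_of_compactSpace (X ⊗ X).hom
  haveI : QuasiSeparatedSpace ↥(X ⊗ X).left := quasiSeparatedSpace_of_quasiSeparated (X ⊗ X).hom
  haveI : CompactSpace ↥(𝟙_ (Over (D.obj j))).left := inferInstanceAs (CompactSpace ↥(D.obj j))
  haveI : QuasiSeparatedSpace ↥(𝟙_ (Over (D.obj j))).left :=
    inferInstanceAs (QuasiSeparatedSpace ↥(D.obj j))
  haveI : LocallyOfFinitePresentation (𝟙_ (Over (D.obj j))).hom := by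
    rw [Over.tensorUnit_hom]
    have : IsOpenImmersion (𝟙 (D.obj j)) := inferInstance
    infer_instance
  -- descend the three structure maps
  let m'' : Φj.obj (X ⊗ X) ⟶ Φj.obj X := (μIso Φj X X).inv ≫ Q.mul
  let η'' : Φj.obj (𝟙_ (Over (D.obj j))) ⟶ Φj.obj X := (εIso Φj).inv ≫ Q.one
  obtain ⟨ia, fa, ha⟩ := exists_map_eq_conj'' D c hc (X ⊗ X) X m''
  obtain ⟨ib, fb, hb⟩ := exists_map_eq_conj'' D c hc (𝟙_ (Over (D.obj j))) X η''
  obtain ⟨ic, fc, hc'⟩ := exists_map_eq_conj'' D c hc X X Q.inv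
  obtain ⟨w, a, b, hab⟩ := IsCofiltered.cospan fa fb
  obtain ⟨i₁, a', c', hac⟩ := IsCofiltered.cospan (a ≫ fa) fc
  obtain ⟨f₁, hf₁⟩ : ∃ f₁ : i₁ ⟶ j, f₁ = a' ≫ a ≫ fa := ⟨_, rfl⟩
  obtain ⟨m₁, hm₁⟩ := ha i₁ (a' ≫ a) f₁ (by simp [hf₁])
  obtain ⟨η₁, hη₁⟩ := hb i₁ (a' ≫ b) f₁ (by simp [hf₁, hab])
  obtain ⟨ι₁, hι₁⟩ := hc' i₁ c' f₁ (by rw [hf₁, hac])
  let F₁ := Over.pullback (D.map f₁)
  let Φ₁ := Over.pullback (c.π.app i₁)
  let X₁ : Over (D.obj i₁) := F₁.obj X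
  let P₁ : PreGrp X₁ := ⟨Functor.LaxMonoidal.μ F₁ X X ≫ m₁, ε F₁ ≫ η₁, ι₁⟩
  -- the image of `P₁` in the limit is the transport of `Q`
  have hmonΘ : NatTrans.IsMonoidal (thetaNat D c f₁).hom := inferInstance
  have claim : P₁.map Φ₁ = Q.ofIso (thetaIso D c f₁ X).symm := by
    refine PreGrp.ext ?_ ?_ ?_
    · have h1 := NatTrans.IsMonoidal.tensor (τ := (thetaNat D c f₁).hom) X X
      rw [thetaNat_hom_app, thetaNat_hom_app, Functor.LaxMonoidal.comp_μ] at h1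
      show Functor.LaxMonoidal.μ Φ₁ X₁ X₁ ≫ Φ₁.map (Functor.LaxMonoidal.μ F₁ X X ≫ m₁) =
        ((thetaIso D c f₁ X).hom ⊗ₘ (thetaIso D c f₁ X).hom) ≫ Q.mul ≫ (thetaIso D c f₁ X).inv
      rw [Φ₁.map_comp, hm₁]
      simp only [Category.assoc] at h1 ⊢
      rw [reassoc_of% h1]
      simp only [m'', Category.assoc, μIso_inv]
      congr 1
      exact μ_δ_assoc Φj X X _
    · have h1 := NatTrans.IsMonoidal.unit (τ := (thetaNat D c f₁).hom)
      rw [thetaNat_hom_app, Functor.LaxMonoidal.comp_ε] at h1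
      show ε Φ₁ ≫ Φ₁.map (ε F₁ ≫ η₁) = Q.one ≫ (thetaIso D c f₁ X).inv
      rw [Φ₁.map_comp, hη₁]
      simp only [Category.assoc] at h1 ⊢
      rw [reassoc_of% h1]
      simp only [η'', Category.assoc, εIso_inv]
      exact ε_η_assoc Φj _
    · exact hι₁
  have hgrp : (P₁.map Φ₁).IsGrp := by
    rw [claim]; exact PreGrp.isGrp_ofIso _ _ hQ
  obtain ⟨e1, e2, e3, e4, e5⟩ := (PreGrp.map_isGrp_iff Φ₁ P₁).mp hgrp
  -- instances at stage `i₁`
  obtain ⟨s1, s2, s3, s4, s5⟩ := bc_instances (D.map f₁) X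
  haveI : CompactSpace ↥X₁.left := s1
  haveI : QuasiSeparatedSpace ↥X₁.left := s2
  haveI : LocallyOfFinitePresentation X₁.hom := s3
  haveI : QuasiCompact X₁.hom := s4
  haveI : QuasiSeparated X₁.hom := s5
  haveI : CompactSpace ↥(𝟙_ (Over (D.obj i₁))).left := inferInstanceAs (CompactSpace ↥(D.obj i₁))
  haveI : QuasiSeparatedSpace ↥(𝟙_ (Over (D.obj i₁))).left :=
    inferInstanceAs (QuasiSeparatedSpace ↥(D.obj i₁))
  haveI : LocallyOfFinitePresentation (𝟙_ (Over (D.obj i₁))).hom := by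
    rw [Over.tensorUnit_hom]
    have : IsOpenImmersion (𝟙 (D.obj i₁)) := inferInstance
    infer_instance
  haveI : QuasiCompact (𝟙_ (Over (D.obj i₁))).hom := by
    rw [Over.tensorUnit_hom]; infer_instance
  haveI : QuasiSeparated (𝟙_ (Over (D.obj i₁))).hom := by
    rw [Over.tensorUnit_hom]; infer_instance
  obtain ⟨u1, u2, u3⟩ := tensor_instances (𝟙_ (Over (D.obj i₁))) X₁
  obtain ⟨v1, v2, v3⟩ := tensor_instances X₁ (𝟙_ (Over (D.obj i₁)))
  obtain ⟨w1, w2, w3⟩ := tensor_instances X₁ X₁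
  haveI := u1; haveI := u2; haveI := u3; haveI := v1; haveI := v2; haveI := v3
  haveI := w1; haveI := w2; haveI := w3
  obtain ⟨x1, x2, x3⟩ := tensor_instances (X₁ ⊗ X₁) X₁
  haveI := x1; haveI := x2; haveI := x3
  haveI : CompactSpace ↥(𝟙_ (Over (D.obj i₁)) ⊗ X₁).left :=
    QuasiCompact.compactSpace_of_compactSpace (𝟙_ (Over (D.obj i₁)) ⊗ X₁).hom
  haveI : QuasiSeparatedSpace ↥(𝟙_ (Over (D.obj i₁)) ⊗ X₁).left :=
    quasiSeparatedSpace_of_quasiSeparated (𝟙_ (Over (D.obj i₁)) ⊗ X₁).hom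
  haveI : CompactSpace ↥(X₁ ⊗ 𝟙_ (Over (D.obj i₁))).left :=
    QuasiCompact.compactSpace_of_compactSpace (X₁ ⊗ 𝟙_ (Over (D.obj i₁))).hom
  haveI : QuasiSeparatedSpace ↥(X₁ ⊗ 𝟙_ (Over (D.obj i₁))).left :=
    quasiSeparatedSpace_of_quasiSeparated (X₁ ⊗ 𝟙_ (Over (D.obj i₁))).hom
  haveI : CompactSpace ↥((X₁ ⊗ X₁) ⊗ X₁).left :=
    QuasiCompact.compactSpace_of_compactSpace ((X₁ ⊗ X₁) ⊗ X₁).hom
  haveI : QuasiSeparatedSpace ↥((X₁ ⊗ X₁) ⊗ X₁).left :=
    quasiSeparatedSpace_of_quasiSeparated ((X₁ ⊗ X₁) ⊗ X₁).hom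
  -- the five axioms hold eventually
  have E1 : Ev (fun k (g : k ⟶ i₁) => (Over.pullback (D.map g)).map P₁.oneMulL =
      (Over.pullback (D.map g)).map (λ_ X₁).hom) := exists_map_eq D c hc _ _ _ _ e1
  have E2 : Ev (fun k (g : k ⟶ i₁) => (Over.pullback (D.map g)).map P₁.mulOneL =
      (Over.pullback (D.map g)).map (ρ_ X₁).hom) := exists_map_eq D c hc _ _ _ _ e2
  have E3 : Ev (fun k (g : k ⟶ i₁) => (Over.pullback (D.map g)).map P₁.assocL =
      (Over.pullback (D.map g)).map P₁.assocR) := exists_map_eq D c hc _ _ _ _ e3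
  have E4 : Ev (fun k (g : k ⟶ i₁) => (Over.pullback (D.map g)).map P₁.leftInvL =
      (Over.pullback (D.map g)).map P₁.unitR) := exists_map_eq D c hc _ _ _ _ e4
  have E5 : Ev (fun k (g : k ⟶ i₁) => (Over.pullback (D.map g)).map P₁.rightInvL =
      (Over.pullback (D.map g)).map P₁.unitR) := exists_map_eq D c hc _ _ _ _ e5
  obtain ⟨k, g, ⟨⟨⟨⟨k1, k2⟩, k3⟩, k4⟩, k5⟩⟩ := (((E1.and E2).and E3).and E4).and E5 |>.exists
  have hP : (P₁.map (Over.pullback (D.map g))).IsGrp :=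
    (PreGrp.map_isGrp_iff _ _).mpr ⟨k1, k2, k3, k4, k5⟩
  let Gk : Over (D.obj k) := (Over.pullback (D.map g)).obj X₁
  letI instG : GrpObj Gk := (P₁.map (Over.pullback (D.map g))).toGrpObj hP
  obtain ⟨r1, r2, r3, r4, r5⟩ := bc_instances (D.map g) X₁
  refine ⟨k, Gk, instG, (thetaIso D c f₁ X).symm ≪≫ (thetaIso D c g X₁).symm, ?_, r3, r4, r5⟩
  have h1 : PreGrp.ofGrpObj (Red.bc (c.π.app k) Gk) =
      (P₁.map (Over.pullback (D.map g))).map (Over.pullback (c.π.app k)) := rfl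
  rw [h1, PreGrp.map_map_eq_ofIso (Over.pullback (D.map g)) (Over.pullback (c.π.app k)) Φ₁
    (thetaNat D c g).symm P₁, claim]
  refine (PreGrp.ofIso_ofIso Q _ _).trans ?_
  congr 1
  ext1
  simp only [Iso.trans_hom, Iso.symm_hom, Iso.app_hom, thetaNat_inv_app]

end main

end Groth.Agent.H24.GrpLim
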