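import Mathlib

/-!
# Monoid homomorphisms and monoidal functors between cartesian monoidal categories (helper24)

* `isMonHom_app_comp` : a natural transformation `K ⟶ F ⋙ F'` is a homomorphism at every monoid
  object, for the iterated structure on the target (same statement as `H75.isMonHom_app`).
* `isMonHom_app_comp'` : the same for `F ⋙ F' ⟶ K`.
* `isMonHom_map_of_map_eq` / `map_eq_of_isMonHom_map` : `F.map u` is a homomorphism iff `F`
  identifies the two sides of the homomorphism equations of `u` (for `F` strong monoidal).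
-/

set_option autoImplicit false
universe v₁ v₂ v₃ u₁ u₂ u₃
open CategoryTheory MonoidalCategory CartesianMonoidalCategory MonObj

namespace Groth.Agent.H24.GrpLim

section cat
variable {C : Type u₁} [Category.{v₁} C] [CartesianMonoidalCategory C]
  {D : Type u₂} [Category.{v₂} D] [CartesianMonoidalCategory D]
  {E : Type u₃} [Category.{v₃} E] [CartesianMonoidalCategory E]
  (F : C ⥤ D) (F' : D ⥤ E) (K : C ⥤ E) [F.Monoidal] [F'.Monoidal] [K.Monoidal]

theorem isMonHom_app_comp (θ : K ⟶ F ⋙ F') (M : C) [MonObj M] :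
    @IsMonHom E _ _ (K.obj M) (F'.obj (F.obj M)) (K.monObjObj (X := M))
      (@Functor.monObjObj D _ _ E _ _ F' _ (F.obj M) (F.monObjObj (X := M))) (θ.app M) := by
  have hmon : NatTrans.IsMonoidal θ := inferInstance
  let i1 : MonObj (K.obj M) := K.monObjObj (X := M)
  let i2 : MonObj (F.obj M) := F.monObjObj (X := M)
  let i3 : MonObj (F'.obj (F.obj M)) := F'.monObjObj (X := F.obj M)
  refine @IsMonHom.mk E _ _ (K.obj M) (F'.obj (F.obj M)) i1 i3 (θ.app M) ?_ ?_
  · have h1 := NatTrans.IsMonoidal.unit (τ := θ)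
    have h2 := θ.naturality (η[M])
    show (Functor.LaxMonoidal.ε K ≫ K.map η[M]) ≫ θ.app M =
      Functor.LaxMonoidal.ε F' ≫ F'.map (Functor.LaxMonoidal.ε F ≫ F.map η[M])
    rw [Category.assoc, h2, reassoc_of% h1]
    simp
  · have h1 := NatTrans.IsMonoidal.tensor (τ := θ) M M
    have h2 := θ.naturality (μ[M])
    show (Functor.LaxMonoidal.μ K M M ≫ K.map μ[M]) ≫ θ.app M =
      (θ.app M ⊗ₘ θ.app M) ≫ Functor.LaxMonoidal.μ F' (F.obj M) (F.obj M) ≫
        F'.map (Functor.LaxMonoidal.μ F M M ≫ F.map μ[M])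
    rw [Category.assoc, h2, reassoc_of% h1]
    simp

theorem isMonHom_app_comp' (θ : F ⋙ F' ⟶ K) (M : C) [MonObj M] :
    @IsMonHom E _ _ (F'.obj (F.obj M)) (K.obj M)
      (@Functor.monObjObj D _ _ E _ _ F' _ (F.obj M) (F.monObjObj (X := M)))
      (K.monObjObj (X := M)) (θ.app M) := by
  have hmon : NatTrans.IsMonoidal θ := inferInstance
  let i1 : MonObj (K.obj M) := K.monObjObj (X := M)
  let i2 : MonObj (F.obj M) := F.monObjObj (X := M)
  let i3 : MonObj (F'.obj (F.obj M)) := F'.monObjObj (X := F.obj M)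
  refine @IsMonHom.mk E _ _ (F'.obj (F.obj M)) (K.obj M) i3 i1 (θ.app M) ?_ ?_
  · have h1 := NatTrans.IsMonoidal.unit (τ := θ)
    have h2 := θ.naturality (η[M])
    show (Functor.LaxMonoidal.ε F' ≫ F'.map (Functor.LaxMonoidal.ε F ≫ F.map η[M])) ≫ θ.app M =
      Functor.LaxMonoidal.ε K ≫ K.map η[M]
    rw [← h1]
    simp only [Category.assoc]
    rw [← h2]
    simp
  · have h1 := NatTrans.IsMonoidal.tensor (τ := θ) M M
    have h2 := θ.naturality (μ[M])
    show (Functor.LaxMonoidal.μ F' (F.obj M) (F.obj M) ≫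
        F'.map (Functor.LaxMonoidal.μ F M M ≫ F.map μ[M])) ≫ θ.app M =
      (θ.app M ⊗ₘ θ.app M) ≫ Functor.LaxMonoidal.μ K M M ≫ K.map μ[M]
    rw [← reassoc_of% h1]
    simp only [Category.assoc]
    rw [← h2]
    simp

end cat

section refl
variable {C : Type u₁} [Category.{v₁} C] [CartesianMonoidalCategory C]
  {D : Type u₂} [Category.{v₂} D] [CartesianMonoidalCategory D]
  (F : C ⥤ D) [F.Monoidal] {M N : C} [MonObj M] [MonObj N] (u : M ⟶ N)

open scoped Obj

theorem isMonHom_map_of_map_eq (h1 : F.map (η[M] ≫ u) = F.map η[N])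
    (h2 : F.map (μ[M] ≫ u) = F.map ((u ⊗ₘ u) ≫ μ[N])) : IsMonHom (F.map u) where
  one_hom := by
    show (Functor.LaxMonoidal.ε F ≫ F.map η[M]) ≫ F.map u = Functor.LaxMonoidal.ε F ≫ F.map η[N]
    rw [Category.assoc, ← F.map_comp, h1]
  mul_hom := by
    show (Functor.LaxMonoidal.μ F M M ≫ F.map μ[M]) ≫ F.map u =
      (F.map u ⊗ₘ F.map u) ≫ Functor.LaxMonoidal.μ F N N ≫ F.map μ[N]
    rw [Category.assoc, ← F.map_comp, h2, F.map_comp, Functor.LaxMonoidal.μ_natural_assoc]

theorem map_eq_of_isMonHom_map [IsMonHom (F.map u)] :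
    F.map (η[M] ≫ u) = F.map η[N] ∧ F.map (μ[M] ≫ u) = F.map ((u ⊗ₘ u) ≫ μ[N]) := by
  constructor
  · have h := IsMonHom.one_hom (F.map u)
    have h' : (Functor.LaxMonoidal.ε F ≫ F.map η[M]) ≫ F.map u =
        Functor.LaxMonoidal.ε F ≫ F.map η[N] := h
    rw [Category.assoc, ← F.map_comp] at h'
    exact (cancel_epi (Functor.LaxMonoidal.ε F)).mp h'
  · have h := IsMonHom.mul_hom (F.map u)
    have h' : (Functor.LaxMonoidal.μ F M M ≫ F.map μ[M]) ≫ F.map u =
      (F.map u ⊗ₘ F.map u) ≫ Functor.LaxMonoidal.μ F N N ≫ F.map μ[N] := h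
    rw [Category.assoc, ← F.map_comp, Functor.LaxMonoidal.μ_natural_assoc, ← F.map_comp] at h'
    exact (cancel_epi (Functor.LaxMonoidal.μ F M M)).mp h'

end refl

end Groth.Agent.H24.GrpLim
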