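import Mathlib

/-!
# Normal and central homomorphisms via universal points (helper24)

In a cartesian monoidal category: `i : N ⟶ G` is normal on points iff the universal conjugate
`conjHom i : G ⊗ N ⟶ G` factors through `i`; it is central on points iff `commL i = commR i`.
Behaviour under monoidal functors and under conjugation by group isomorphisms.
-/

set_option autoImplicit false
universe v₁ v₂ u₁ u₂
open CategoryTheory MonoidalCategory CartesianMonoidalCategory MonObj GrpObj

namespace Groth.Agent.H24.GrpLim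

section defs
variable {C : Type u₁} [Category.{v₁} C] [CartesianMonoidalCategory C]
  {N G : C} [GrpObj N] [GrpObj G]

/-- normality on points -/
def IsNormalPts (i : N ⟶ G) : Prop :=
  ∀ (T : C) (g : T ⟶ G) (n : T ⟶ N), ∃ n' : T ⟶ N, g * (n ≫ i) * g⁻¹ = n' ≫ i

/-- centrality on points -/
def IsCentralPts (i : N ⟶ G) : Prop :=
  ∀ (T : C) (g : T ⟶ G) (n : T ⟶ N), g * (n ≫ i) = (n ≫ i) * g

/-- the universal conjugate -/
def conjHom (i : N ⟶ G) : G ⊗ N ⟶ G := fst G N * (snd G N ≫ i) * (fst G N)⁻¹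

def commL (i : N ⟶ G) : G ⊗ N ⟶ G := fst G N * (snd G N ≫ i)

def commR (i : N ⟶ G) : G ⊗ N ⟶ G := (snd G N ≫ i) * fst G N

theorem lift_conjHom (i : N ⟶ G) {T : C} (g : T ⟶ G) (n : T ⟶ N) :
    lift g n ≫ conjHom i = g * (n ≫ i) * g⁻¹ := by
  simp [conjHom, comp_mul, comp_inv]

theorem lift_commL (i : N ⟶ G) {T : C} (g : T ⟶ G) (n : T ⟶ N) :
    lift g n ≫ commL i = g * (n ≫ i) := by
  simp [commL, comp_mul]

theorem lift_commR (i : N ⟶ G) {T : C} (g : T ⟶ G) (n : T ⟶ N) :
    lift g n ≫ commR i = (n ≫ i) * g := by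
  simp [commR, comp_mul]

theorem isNormalPts_iff (i : N ⟶ G) : IsNormalPts i ↔ ∃ ν : G ⊗ N ⟶ N, conjHom i = ν ≫ i := by
  constructor
  · intro h
    obtain ⟨ν, hν⟩ := h (G ⊗ N) (fst G N) (snd G N)
    exact ⟨ν, hν⟩
  · rintro ⟨ν, hν⟩ T g n
    refine ⟨lift g n ≫ ν, ?_⟩
    rw [Category.assoc, ← hν, lift_conjHom]

theorem isCentralPts_iff (i : N ⟶ G) : IsCentralPts i ↔ commL i = commR i := by
  constructor
  · intro h
    exact h (G ⊗ N) (fst G N) (snd G N)
  · intro h T g n
    rw [← lift_commL, ← lift_commR, h]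

end defs

section functor
variable {C : Type u₁} [Category.{v₁} C] [CartesianMonoidalCategory C]
  {D : Type u₂} [Category.{v₂} D] [CartesianMonoidalCategory D]
  (F : C ⥤ D) [F.Monoidal] {N G : C} [GrpObj N] [GrpObj G] (i : N ⟶ G)

open scoped Obj
open Functor.LaxMonoidal Functor.Monoidal

theorem μ_map_conjHom : Functor.LaxMonoidal.μ F G N ≫ F.map (conjHom i) = conjHom (F.map i) := by
  simp only [conjHom, Functor.map_mul, Functor.map_inv', Functor.map_comp, comp_mul, comp_inv]
  rw [Functor.Monoidal.μ_fst, ← Category.assoc, Functor.Monoidal.μ_snd]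

theorem μ_map_commL : Functor.LaxMonoidal.μ F G N ≫ F.map (commL i) = commL (F.map i) := by
  simp only [commL, Functor.map_mul, Functor.map_comp, comp_mul]
  rw [Functor.Monoidal.μ_fst, ← Category.assoc, Functor.Monoidal.μ_snd]

theorem μ_map_commR : Functor.LaxMonoidal.μ F G N ≫ F.map (commR i) = commR (F.map i) := by
  simp only [commR, Functor.map_mul, Functor.map_comp, comp_mul]
  rw [Functor.Monoidal.μ_fst, ← Category.assoc, Functor.Monoidal.μ_snd]

theorem isNormalPts_map_iff :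
    IsNormalPts (F.map i) ↔ ∃ ν : F.obj (G ⊗ N) ⟶ F.obj N, F.map (conjHom i) = ν ≫ F.map i := by
  rw [isNormalPts_iff]
  constructor
  · rintro ⟨ν, hν⟩
    refine ⟨(Functor.Monoidal.μIso F G N).inv ≫ ν, ?_⟩
    rw [Category.assoc, ← hν, ← μ_map_conjHom]
    simp
  · rintro ⟨ν, hν⟩
    refine ⟨Functor.LaxMonoidal.μ F G N ≫ ν, ?_⟩
    rw [Category.assoc, ← hν, μ_map_conjHom]

theorem isCentralPts_map_iff :
    IsCentralPts (F.map i) ↔ F.map (commL i) = F.map (commR i) := by
  rw [isCentralPts_iff, ← μ_map_commL, ← μ_map_commR]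
  constructor
  · intro h
    exact (cancel_epi (Functor.LaxMonoidal.μ F G N)).mp h
  · intro h
    rw [h]

end functor

section iso
variable {C : Type u₁} [Category.{v₁} C] [CartesianMonoidalCategory C]
  {N N' G G' : C} [GrpObj N] [GrpObj G] [GrpObj N'] [GrpObj G']

theorem IsNormalPts.conj_iso {i : N ⟶ G} (h : IsNormalPts i) (a : N' ≅ N) (b : G ≅ G')
    [IsMonHom b.hom] : IsNormalPts (a.hom ≫ i ≫ b.hom) := by
  intro T g n
  obtain ⟨m, hm⟩ := h T (g ≫ b.inv) (n ≫ a.hom)
  refine ⟨m ≫ a.inv, ?_⟩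
  have := congrArg (· ≫ b.hom) hm
  simp only [mul_comp, inv_comp, Category.assoc, Iso.inv_hom_id, Category.comp_id] at this
  rw [this]
  simp

theorem IsCentralPts.conj_iso {i : N ⟶ G} (h : IsCentralPts i) (a : N' ≅ N) (b : G ≅ G')
    [IsMonHom b.hom] : IsCentralPts (a.hom ≫ i ≫ b.hom) := by
  intro T g n
  have := congrArg (· ≫ b.hom) (h T (g ≫ b.inv) (n ≫ a.hom))
  simp only [mul_comp, Category.assoc, Iso.inv_hom_id, Category.comp_id] at this
  exact this

end iso

end Groth.Agent.H24.GrpLim
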