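import Groth.Agent.H24.GrpLim.Transport
import Groth.Agent.H24.GrpLim.Normal
import Groth.Agent.S2579

/-!
# Mono / normal / central homomorphisms over a cofiltered limit descend to a stage (helper24)
-/

set_option autoImplicit false
universe u
open CategoryTheory CategoryTheory.Limits MonoidalCategory CartesianMonoidalCategory MonObj GrpObj
  AlgebraicGeometry

namespace Groth.Agent.H24.GrpLim

section nat

theorem eqToHom_bc_naturality {S S' : Scheme.{u}} {t t' : S' ⟶ S} (h : t = t') {X Y : Over S}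
    (x : X ⟶ Y) :
    (Over.pullback t).map x ≫ eqToHom (congrArg (fun g => Red.bc g Y) h) =
      eqToHom (congrArg (fun g => Red.bc g X) h) ≫ (Over.pullback t').map x := by
  subst h
  simp

variable {I : Type u} [SmallCategory I] [IsCofiltered I]
    (D : I ⥤ Scheme.{u}) (c : Limits.Cone D)

theorem thetaIso_naturality {i j : I} (f : i ⟶ j) {X Y : Over (D.obj j)} (x : X ⟶ Y) :
    (Over.pullback (c.π.app i)).map ((Over.pullback (D.map f)).map x) ≫ (thetaIso D c f Y).hom =
      (thetaIso D c f X).hom ≫ (Over.pullback (c.π.app j)).map x := by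
  have h1 := (Over.pullbackComp (c.π.app i) (D.map f)).inv.naturality x
  simp only [Functor.comp_map] at h1
  simp only [thetaIso, Iso.trans_hom, Iso.symm_hom, Iso.app_inv, eqToIso.hom, Category.assoc]
  rw [reassoc_of% h1, eqToHom_bc_naturality (c.w f) x]

theorem kappaIso_naturality {k i j : I} (g : k ⟶ i) (f : i ⟶ j) {X Y : Over (D.obj j)}
    (x : X ⟶ Y) :
    (Over.pullback (D.map (g ≫ f))).map x ≫ (kappaIso D g f Y).hom =
      (kappaIso D g f X).hom ≫ (Over.pullback (D.map g)).map ((Over.pullback (D.map f)).map x) := by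
  have h1 := (Over.pullbackComp (D.map g) (D.map f)).hom.naturality x
  simp only [Functor.comp_map] at h1
  simp only [kappaIso, Iso.trans_hom, Iso.app_hom, eqToIso.hom, Category.assoc]
  rw [← h1, ← Category.assoc, eqToHom_bc_naturality (D.map_comp g f) x, Category.assoc]

theorem map_eq_theta {i j : I} (f : i ⟶ j) {X Y : Over (D.obj j)} (x : X ⟶ Y) :
    (Over.pullback (c.π.app j)).map x = (thetaIso D c f X).inv ≫
      (Over.pullback (c.π.app i)).map ((Over.pullback (D.map f)).map x) ≫
        (thetaIso D c f Y).hom := by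
  rw [thetaIso_naturality, Iso.inv_hom_id_assoc]

theorem map_eq_kappa {k i j : I} (g : k ⟶ i) (f : i ⟶ j) {X Y : Over (D.obj j)} (x : X ⟶ Y) :
    (Over.pullback (D.map (g ≫ f))).map x = (kappaIso D g f X).hom ≫
      (Over.pullback (D.map g)).map ((Over.pullback (D.map f)).map x) ≫
        (kappaIso D g f Y).inv := by
  rw [← Category.assoc, ← kappaIso_naturality, Category.assoc, Iso.hom_inv_id, Category.comp_id]

end nat

section stage

theorem isPullback_map_left {S S' : Scheme.{u}} (t : S' ⟶ S) {X Y : Over S} (x : X ⟶ Y) :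
    IsPullback (pullback.fst X.hom t) ((Over.pullback t).map x).left x.left
      (pullback.fst Y.hom t) := by
  have tY : IsPullback (pullback.fst Y.hom t) (pullback.snd Y.hom t) Y.hom t :=
    IsPullback.of_hasPullback _ _
  have sX : IsPullback (pullback.fst X.hom t) (pullback.snd X.hom t) (x.left ≫ Y.hom) t := by
    rw [Over.w x]
    exact IsPullback.of_hasPullback _ _
  have e1 : ((Over.pullback t).map x).left ≫ pullback.fst Y.hom t =
      pullback.fst X.hom t ≫ x.left := pullback_map_left_fst t x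
  have e2 : ((Over.pullback t).map x).left ≫ pullback.snd Y.hom t = pullback.snd X.hom t :=
    pullback_map_left_snd t x
  have sX' : IsPullback (pullback.fst X.hom t) (((Over.pullback t).map x).left ≫
      pullback.snd Y.hom t) (x.left ≫ Y.hom) t := by rw [e2]; exact sX
  exact IsPullback.of_bot sX' e1.symm tY

theorem bc_instances {S S' : Scheme.{u}} (t : S' ⟶ S) [CompactSpace S'] [QuasiSeparatedSpace S']
    (X : Over S) [LocallyOfFinitePresentation X.hom] [QuasiCompact X.hom] [QuasiSeparated X.hom] :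
    CompactSpace ↥(Red.bc t X).left ∧ QuasiSeparatedSpace ↥(Red.bc t X).left ∧
      LocallyOfFinitePresentation (Red.bc t X).hom ∧ QuasiCompact (Red.bc t X).hom ∧
        QuasiSeparated (Red.bc t X).hom := by
  have h1 : LocallyOfFinitePresentation (Red.bc t X).hom :=
    MorphismProperty.pullback_snd (P := @LocallyOfFinitePresentation) _ _ inferInstance
  have h2 : QuasiCompact (Red.bc t X).hom :=
    MorphismProperty.pullback_snd (P := @QuasiCompact) _ _ inferInstance
  have h3 : QuasiSeparated (Red.bc t X).hom :=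
    MorphismProperty.pullback_snd (P := @QuasiSeparated) _ _ inferInstance
  exact ⟨QuasiCompact.compactSpace_of_compactSpace (Red.bc t X).hom,
    quasiSeparatedSpace_of_quasiSeparated (Red.bc t X).hom, h1, h2, h3⟩

theorem tensor_instances {S : Scheme.{u}} (X Y : Over S)
    [LocallyOfFinitePresentation X.hom] [QuasiCompact X.hom] [QuasiSeparated X.hom]
    [LocallyOfFinitePresentation Y.hom] [QuasiCompact Y.hom] [QuasiSeparated Y.hom] :
    LocallyOfFinitePresentation (X ⊗ Y).hom ∧ QuasiCompact (X ⊗ Y).hom ∧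
      QuasiSeparated (X ⊗ Y).hom := by
  rw [Over.tensorObj_hom]
  exact ⟨inferInstance, inferInstance, inferInstance⟩

variable {I : Type u} [SmallCategory I] [IsCofiltered I]
    (D : I ⥤ Scheme.{u}) (c : Limits.Cone D) (hc : Limits.IsLimit c)
    [∀ (i i' : I) (f : i ⟶ i'), IsAffineHom (D.map f)] [∀ i, CompactSpace (D.obj i)]
    [∀ i, QuasiSeparatedSpace (D.obj i)]
    {j : I} {N G : Over (D.obj j)}
    [LocallyOfFinitePresentation N.hom] [QuasiCompact N.hom] [QuasiSeparated N.hom]
    [LocallyOfFinitePresentation G.hom] [QuasiCompact G.hom] [QuasiSeparated G.hom]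

omit [∀ (i i' : I) (f : i ⟶ i'), IsAffineHom (D.map f)]
  [∀ i, CompactSpace (D.obj i)] [∀ i, QuasiSeparatedSpace (D.obj i)]
  [LocallyOfFinitePresentation N.hom] [QuasiCompact N.hom] [QuasiSeparated N.hom]
  [LocallyOfFinitePresentation G.hom] [QuasiCompact G.hom] [QuasiSeparated G.hom] in
theorem mono_later (u : N ⟶ G) {i : I} (f : i ⟶ j) [Mono ((Over.pullback (D.map f)).map u)]
    {k : I} (g : k ⟶ i) : Mono ((Over.pullback (D.map (g ≫ f))).map u) := by
  rw [map_eq_kappa D g f u]
  infer_instance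

omit [∀ (i i' : I) (f : i ⟶ i'), IsAffineHom (D.map f)]
  [∀ i, CompactSpace (D.obj i)] [∀ i, QuasiSeparatedSpace (D.obj i)]
  [LocallyOfFinitePresentation N.hom] [QuasiCompact N.hom] [QuasiSeparated N.hom]
  [LocallyOfFinitePresentation G.hom] [QuasiCompact G.hom] [QuasiSeparated G.hom] in
theorem mono_of_stage (u : N ⟶ G) {i : I} (f : i ⟶ j) [Mono ((Over.pullback (D.map f)).map u)] :
    Mono ((Over.pullback (c.π.app j)).map u) := by
  rw [map_eq_theta D c f u]
  infer_instance

include hc in
theorem exists_mono_stage (u : N ⟶ G) [Mono ((Over.pullback (c.π.app j)).map u)] :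
    ∃ (i : I) (f : i ⟶ j), ∀ (k : I) (g : k ⟶ i),
      Mono ((Over.pullback (D.map (g ≫ f))).map u) := by
  haveI : Mono ((Over.pullback (c.π.app j)).map u).left := inferInstance
  haveI : LocallyOfFinitePresentation (u.left ≫ G.hom) := by rw [Over.w u]; infer_instance
  haveI : QuasiCompact (u.left ≫ G.hom) := by rw [Over.w u]; infer_instance
  haveI : QuasiSeparated (u.left ≫ G.hom) := by rw [Over.w u]; infer_instance
  obtain ⟨i, φ, Xi, Yi, fi, gi, pY, pX, hYi, hXi, hmono⟩ :=
    Groth.Agent.S2579.result D c hc j u.left G.hom ((Over.pullback (c.π.app j)).map u).left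
      (pullback.snd G.hom (c.π.app j)) (pullback.fst G.hom (c.π.app j))
      (pullback.fst N.hom (c.π.app j)) (IsPullback.of_hasPullback _ _)
      (isPullback_map_left (c.π.app j) u)
  have hm : Mono ((Over.pullback (D.map φ)).map u).left :=
    (Groth.Agent.H24.prop_iff_of_isPullback (MorphismProperty.monomorphisms Scheme.{u})
      hYi.isoPullback hYi.isoPullback_hom_fst hXi (isPullback_map_left (D.map φ) u)).mp hmono
  haveI : Mono ((Over.pullback (D.map φ)).map u) := Over.mono_of_mono_left _
  exact ⟨i, φ, fun k g => mono_later D u φ g⟩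

variable [GrpObj N] [GrpObj G]

omit [∀ (i i' : I) (f : i ⟶ i'), IsAffineHom (D.map f)]
  [∀ i, CompactSpace (D.obj i)] [∀ i, QuasiSeparatedSpace (D.obj i)]
  [LocallyOfFinitePresentation N.hom] [QuasiCompact N.hom] [QuasiSeparated N.hom]
  [LocallyOfFinitePresentation G.hom] [QuasiCompact G.hom] [QuasiSeparated G.hom] in
theorem normal_of_stage (u : N ⟶ G) {i : I} (f : i ⟶ j)
    (h : IsNormalPts ((Over.pullback (D.map f)).map u)) :
    IsNormalPts ((Over.pullback (c.π.app j)).map u) := by
  obtain ⟨ν, hν⟩ := (isNormalPts_iff _).mp h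
  have h1 : IsNormalPts ((Over.pullback (c.π.app i)).map ((Over.pullback (D.map f)).map u)) := by
    rw [isNormalPts_map_iff]
    exact ⟨(Over.pullback (c.π.app i)).map ν, by rw [hν, Functor.map_comp]⟩
  rw [map_eq_theta D c f u]
  exact h1.conj_iso (thetaIso D c f N).symm (thetaIso D c f G)

omit [∀ (i i' : I) (f : i ⟶ i'), IsAffineHom (D.map f)]
  [∀ i, CompactSpace (D.obj i)] [∀ i, QuasiSeparatedSpace (D.obj i)]
  [LocallyOfFinitePresentation N.hom] [QuasiCompact N.hom] [QuasiSeparated N.hom]
  [LocallyOfFinitePresentation G.hom] [QuasiCompact G.hom] [QuasiSeparated G.hom] in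
theorem central_of_stage (u : N ⟶ G) {i : I} (f : i ⟶ j)
    (h : IsCentralPts ((Over.pullback (D.map f)).map u)) :
    IsCentralPts ((Over.pullback (c.π.app j)).map u) := by
  have hc' := (isCentralPts_iff _).mp h
  have h1 : IsCentralPts ((Over.pullback (c.π.app i)).map ((Over.pullback (D.map f)).map u)) := by
    rw [isCentralPts_map_iff, hc']
  rw [map_eq_theta D c f u]
  exact h1.conj_iso (thetaIso D c f N).symm (thetaIso D c f G)

include hc in
theorem exists_central_stage (u : N ⟶ G)
    (h : IsCentralPts ((Over.pullback (c.π.app j)).map u)) :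
    ∃ (i : I) (f : i ⟶ j), ∀ (k : I) (g : k ⟶ i),
      IsCentralPts ((Over.pullback (D.map (g ≫ f))).map u) := by
  have h1 := (isCentralPts_map_iff _ _).mp h
  obtain ⟨t1, t2, t3⟩ := tensor_instances G N
  haveI := t1; haveI := t2; haveI := t3
  haveI : CompactSpace ↥(G ⊗ N).left := QuasiCompact.compactSpace_of_compactSpace (G ⊗ N).hom
  haveI : QuasiSeparatedSpace ↥(G ⊗ N).left := quasiSeparatedSpace_of_quasiSeparated (G ⊗ N).hom
  haveI : CompactSpace ↥G.left := QuasiCompact.compactSpace_of_compactSpace G.hom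
  haveI : QuasiSeparatedSpace ↥G.left := quasiSeparatedSpace_of_quasiSeparated G.hom
  obtain ⟨i, f, hf⟩ := exists_map_eq D c hc (G ⊗ N) G (commL u) (commR u) h1
  refine ⟨i, f, fun k g => ?_⟩
  rw [isCentralPts_map_iff]
  exact hf k g

include hc in
theorem exists_normal_stage (u : N ⟶ G)
    (h : IsNormalPts ((Over.pullback (c.π.app j)).map u)) :
    ∃ (i : I) (f : i ⟶ j), ∀ (k : I) (g : k ⟶ i),
      IsNormalPts ((Over.pullback (D.map (g ≫ f))).map u) := by
  obtain ⟨ν, hν⟩ := (isNormalPts_map_iff _ _).mp h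
  obtain ⟨t1, t2, t3⟩ := tensor_instances G N
  haveI := t1; haveI := t2; haveI := t3
  haveI : CompactSpace ↥(G ⊗ N).left := QuasiCompact.compactSpace_of_compactSpace (G ⊗ N).hom
  haveI : QuasiSeparatedSpace ↥(G ⊗ N).left := quasiSeparatedSpace_of_quasiSeparated (G ⊗ N).hom
  haveI : CompactSpace ↥G.left := QuasiCompact.compactSpace_of_compactSpace G.hom
  haveI : QuasiSeparatedSpace ↥G.left := quasiSeparatedSpace_of_quasiSeparated G.hom
  haveI : CompactSpace ↥N.left := QuasiCompact.compactSpace_of_compactSpace N.hom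
  haveI : QuasiSeparatedSpace ↥N.left := quasiSeparatedSpace_of_quasiSeparated N.hom
  obtain ⟨i₁, f₁, ν₁, hν₁⟩ := exists_map_eq_conj D c hc (G ⊗ N) N ν
  let a := (Over.pullback (D.map f₁)).map (conjHom u)
  let b := ν₁ ≫ (Over.pullback (D.map f₁)).map u
  have hab : (Over.pullback (c.π.app i₁)).map a = (Over.pullback (c.π.app i₁)).map b := by
    have ha := thetaIso_naturality D c f₁ (conjHom u)
    have hu := thetaIso_naturality D c f₁ u
    rw [← cancel_mono (thetaIso D c f₁ G).hom, ha]
    simp only [b, Functor.map_comp, Category.assoc]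
    rw [hu, hν₁]
    simp only [Category.assoc, Iso.inv_hom_id_assoc, hν]
  obtain ⟨s1, s2, s3, s4, s5⟩ := bc_instances (D.map f₁) (G ⊗ N)
  obtain ⟨r1, r2, r3, r4, r5⟩ := bc_instances (D.map f₁) G
  haveI := s1; haveI := s2; haveI := s3; haveI := r1; haveI := r2; haveI := r3
  obtain ⟨i₂, g₂, h₂⟩ := exists_map_eq D c hc (Red.bc (D.map f₁) (G ⊗ N)) (Red.bc (D.map f₁) G)
    a b hab
  refine ⟨i₂, g₂ ≫ f₁, fun k g => ?_⟩
  have hk := h₂ k g
  rw [← Category.assoc, isNormalPts_map_iff]
  refine ⟨(kappaIso D (g ≫ g₂) f₁ (G ⊗ N)).hom ≫ (Over.pullback (D.map (g ≫ g₂))).map ν₁ ≫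
    (kappaIso D (g ≫ g₂) f₁ N).inv, ?_⟩
  rw [map_eq_kappa D (g ≫ g₂) f₁ (conjHom u), map_eq_kappa D (g ≫ g₂) f₁ u]
  simp only [Category.assoc, Iso.inv_hom_id_assoc]
  rw [hk]
  simp only [b, Functor.map_comp, Category.assoc]

end stage

end Groth.Agent.H24.GrpLim
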