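import Mathlib

/-!
# Components of `Over.pullbackComp` (helper24)
-/

set_option autoImplicit false
universe v u
open CategoryTheory CategoryTheory.Limits

namespace Groth.Agent.H24.GrpLim

variable {C : Type u} [Category.{v} C] [HasPullbacks C] {X Y Z : C}

theorem pullbackComp_hom_app_left_fst_fst (f : X ⟶ Y) (g : Y ⟶ Z) (A : Over Z) :
    ((Over.pullbackComp f g).hom.app A).left ≫ pullback.fst (pullback.snd A.hom g) f ≫
      pullback.fst A.hom g = pullback.fst A.hom (f ≫ g) := by
  simp [Over.pullbackComp, conjugateIsoEquiv, conjugateEquiv_apply_app]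
  erw [pullback.lift_fst_assoc]
  simp
  erw [pullback.lift_fst_assoc]
  simp
  erw [pullback.lift_fst]
  erw [pullback.lift_fst_assoc]
  simp
  erw [pullback.lift_fst_assoc]
  erw [pullback.lift_fst_assoc]
  erw [pullback.lift_fst_assoc]
  simp

theorem pullbackComp_inv_app_left_fst (f : X ⟶ Y) (g : Y ⟶ Z) (A : Over Z) :
    ((Over.pullbackComp f g).inv.app A).left ≫ pullback.fst A.hom (f ≫ g) =
      pullback.fst (pullback.snd A.hom g) f ≫ pullback.fst A.hom g := by
  rw [← pullbackComp_hom_app_left_fst_fst f g A, ← Over.comp_left_assoc,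
    Iso.inv_hom_id_app]
  simp

theorem eqToHom_pullback_left_fst {f f' : X ⟶ Y} (h : f = f') (A : Over Y) :
    (eqToHom (congrArg (fun g => (Over.pullback g).obj A) h)).left ≫ pullback.fst A.hom f' =
      pullback.fst A.hom f := by
  subst h
  simp

theorem pullback_map_left_fst (f : X ⟶ Y) {A B : Over Y} (a : A ⟶ B) :
    ((Over.pullback f).map a).left ≫ pullback.fst B.hom f = pullback.fst A.hom f ≫ a.left :=
  pullback.lift_fst _ _ _

theorem pullback_map_left_snd (f : X ⟶ Y) {A B : Over Y} (a : A ⟶ B) :
    ((Over.pullback f).map a).left ≫ pullback.snd B.hom f = pullback.snd A.hom f :=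
  pullback.lift_snd _ _ _

end Groth.Agent.H24.GrpLim
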