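import Groth.Agent.S9218
import Groth.Agent.S9219
import Groth.Agent.H24.GrpLim.PullbackComp
import Groth.Agent.H24.GrpLim.Monoidal
import Groth.Prelude.Def_Red

/-!
# `Over.pullback` along the projections of a cofiltered limit: fullness and faithfulness (helper24)

Over-category forms of the rows `S9218` (fullness) and `S9219` (faithfulness), with the canonical
identifications `thetaIso` used in the SGA3 limit rows.
-/

set_option autoImplicit false
universe u
open CategoryTheory CategoryTheory.Limits MonoidalCategory CartesianMonoidalCategory MonObj GrpObj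
  AlgebraicGeometry

namespace Groth.Agent.H24.GrpLim

variable {I : Type u} [SmallCategory I] [IsCofiltered I]
    (D : I ⥤ Scheme.{u}) (c : Limits.Cone D)

/-- The canonical identification `(S ×_{S_i} (S_i ×_{S_j} X)) ≅ S ×_{S_j} X`. -/
noncomputable abbrev thetaIso {i j : I} (f : i ⟶ j) (X : Over (D.obj j)) :
    (Over.pullback (c.π.app i)).obj (Red.bc (D.map f) X) ≅ Red.bc (c.π.app j) X :=
  ((Over.pullbackComp (c.π.app i) (D.map f)).app X).symm ≪≫
    eqToIso (congrArg (fun g => Red.bc g X) (c.w f))

theorem thetaIso_hom_left_fst {i j : I} (f : i ⟶ j) (X : Over (D.obj j)) :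
    (thetaIso D c f X).hom.left ≫ pullback.fst X.hom (c.π.app j) =
      pullback.fst (pullback.snd X.hom (D.map f)) (c.π.app i) ≫ pullback.fst X.hom (D.map f) := by
  simp only [thetaIso, Iso.trans_hom, Iso.symm_hom, Iso.app_inv, eqToIso.hom, Over.comp_left,
    Category.assoc]
  rw [eqToHom_pullback_left_fst (c.w f) X, pullbackComp_inv_app_left_fst]

theorem thetaIso_hom_left_snd {i j : I} (f : i ⟶ j) (X : Over (D.obj j)) :
    (thetaIso D c f X).hom.left ≫ pullback.snd X.hom (c.π.app j) =
      pullback.snd (pullback.snd X.hom (D.map f)) (c.π.app i) :=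
  Over.w (thetaIso D c f X).hom

theorem thetaIso_inv_left_fst {i j : I} (f : i ⟶ j) (X : Over (D.obj j)) :
    (thetaIso D c f X).inv.left ≫
      pullback.fst (pullback.snd X.hom (D.map f)) (c.π.app i) ≫ pullback.fst X.hom (D.map f) =
      pullback.fst X.hom (c.π.app j) := by
  rw [← thetaIso_hom_left_fst, ← Over.comp_left_assoc, Iso.inv_hom_id]
  simp

section mon

variable {S S' S'' : Scheme.{u}}

theorem isMonHom_eqToHom_bc {f f' : S' ⟶ S} (h : f = f') (G : Over S) [GrpObj G] :
    IsMonHom (eqToHom (congrArg (fun g => Red.bc g G) h)) := by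
  subst h
  simp only [eqToHom_refl]
  infer_instance

theorem isMonHom_pullbackComp_hom (f : S'' ⟶ S') (g : S' ⟶ S) (G : Over S) [GrpObj G] :
    IsMonHom (M := Red.bc (f ≫ g) G) (N := Red.bc f (Red.bc g G))
      ((Over.pullbackComp f g).hom.app G) :=
  isMonHom_app_comp (Over.pullback g) (Over.pullback f) (Over.pullback (f ≫ g))
    (Over.pullbackComp f g).hom G

theorem isMonHom_pullbackComp_inv (f : S'' ⟶ S') (g : S' ⟶ S) (G : Over S) [GrpObj G] :
    IsMonHom (M := Red.bc f (Red.bc g G)) (N := Red.bc (f ≫ g) G)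
      ((Over.pullbackComp f g).inv.app G) :=
  isMonHom_app_comp' (Over.pullback g) (Over.pullback f) (Over.pullback (f ≫ g))
    (Over.pullbackComp f g).inv G

end mon

instance isMonHom_thetaIso_hom {i j : I} (f : i ⟶ j) (G : Over (D.obj j)) [GrpObj G] :
    IsMonHom (thetaIso D c f G).hom := by
  have h1 := isMonHom_pullbackComp_inv (c.π.app i) (D.map f) G
  have h2 := isMonHom_eqToHom_bc (c.w f) G
  simp only [thetaIso, Iso.trans_hom, Iso.symm_hom, Iso.app_inv, eqToIso.hom]
  exact @instIsMonHomComp _ _ _ (Red.bc (c.π.app i) (Red.bc (D.map f) G))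
    (Red.bc (c.π.app i ≫ D.map f) G) (Red.bc (c.π.app j) G) _ _ _ _ _ h1 h2

theorem map_eq_comp {S S' S'' : Scheme.{u}} (f : S'' ⟶ S') (g : S' ⟶ S) {A B : Over S}
    (a b : A ⟶ B) (h : (Over.pullback g).map a = (Over.pullback g).map b) :
    (Over.pullback (f ≫ g)).map a = (Over.pullback (f ≫ g)).map b := by
  have ha := (Over.pullbackComp f g).hom.naturality a
  have hb := (Over.pullbackComp f g).hom.naturality b
  rw [← cancel_mono ((Over.pullbackComp f g).hom.app B), ha, hb]
  simp only [Functor.comp_map, h]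

variable (hc : Limits.IsLimit c) [∀ (i i' : I) (f : i ⟶ i'), IsAffineHom (D.map f)]

include hc in
/-- Faithfulness in the limit, `Over` form of `S9219`. -/
theorem exists_map_eq {i : I} (A B : Over (D.obj i))
    [CompactSpace A.left] [QuasiSeparatedSpace A.left] [LocallyOfFinitePresentation A.hom]
    [CompactSpace B.left] [QuasiSeparatedSpace B.left] [LocallyOfFinitePresentation B.hom]
    (a b : A ⟶ B)
    (h : (Over.pullback (c.π.app i)).map a = (Over.pullback (c.π.app i)).map b) :
    ∃ (i' : I) (g : i' ⟶ i), ∀ (i'' : I) (g' : i'' ⟶ i'),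
      (Over.pullback (D.map (g' ≫ g))).map a = (Over.pullback (D.map (g' ≫ g))).map b := by
  have hl : pullback.fst A.hom (c.π.app i) ≫ a.left = pullback.fst A.hom (c.π.app i) ≫ b.left := by
    rw [← pullback_map_left_fst, ← pullback_map_left_fst, h]
  obtain ⟨i', g, hj⟩ := Groth.Agent.S9219.result D c hc i (Xi := A.left) (Yi := B.left) A.hom B.hom
    (pullback.fst A.hom (c.π.app i)) (pullback.snd A.hom (c.π.app i))
    (IsPullback.of_hasPullback _ _) a.left b.left (Over.w a) (Over.w b) hl
  refine ⟨i', g, fun i'' g' => ?_⟩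
  rw [D.map_comp]
  apply map_eq_comp
  apply Over.OverMorphism.ext
  apply pullback.hom_ext
  · rw [pullback_map_left_fst, pullback_map_left_fst, hj]
  · rw [pullback_map_left_snd, pullback_map_left_snd]

include hc in
/-- Fullness in the limit, `Over` form of `S9218`. -/
theorem exists_map_eq_conj {j : I} (G H : Over (D.obj j))
    [CompactSpace G.left] [QuasiSeparatedSpace G.left] [LocallyOfFinitePresentation G.hom]
    [CompactSpace H.left] [QuasiSeparatedSpace H.left] [LocallyOfFinitePresentation H.hom]
    (u : Red.bc (c.π.app j) G ⟶ Red.bc (c.π.app j) H) :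
    ∃ (i : I) (f : i ⟶ j) (ui : Red.bc (D.map f) G ⟶ Red.bc (D.map f) H),
      (Over.pullback (c.π.app i)).map ui =
        (thetaIso D c f G).hom ≫ u ≫ (thetaIso D c f H).inv := by
  obtain ⟨i, φ, fj, sX, sY, h1, h2, h3, h4, h5, h6⟩ :=
    Groth.Agent.S9218.result D c hc j (Xi := G.left) (Yi := H.left) G.hom H.hom
      (pullback.fst G.hom (c.π.app j)) (pullback.snd G.hom (c.π.app j))
      (IsPullback.of_hasPullback _ _)
      (pullback.fst H.hom (c.π.app j)) (pullback.snd H.hom (c.π.app j))
      (IsPullback.of_hasPullback _ _) u.left (Over.w u)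
  let ui : Red.bc (D.map φ) G ⟶ Red.bc (D.map φ) H := Over.homMk fj h1
  refine ⟨i, φ, ui, ?_⟩
  rw [← Category.assoc, Iso.eq_comp_inv]
  have e1 : ((Over.pullback (c.π.app i)).map ui).left ≫
      pullback.fst (pullback.snd H.hom (D.map φ)) (c.π.app i) =
      pullback.fst (pullback.snd G.hom (D.map φ)) (c.π.app i) ≫ fj :=
    pullback_map_left_fst (c.π.app i) ui
  have e2 : ((Over.pullback (c.π.app i)).map ui).left ≫
      pullback.snd (pullback.snd H.hom (D.map φ)) (c.π.app i) =
      pullback.snd (pullback.snd G.hom (D.map φ)) (c.π.app i) :=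
    pullback_map_left_snd (c.π.app i) ui
  have hθ : (thetaIso D c φ G).hom.left ≫ sX =
      pullback.fst (pullback.snd G.hom (D.map φ)) (c.π.app i) := by
    apply pullback.hom_ext
    · rw [Category.assoc, h2, thetaIso_hom_left_fst]
    · rw [Category.assoc, h3, ← Category.assoc, thetaIso_hom_left_snd, pullback.condition]
  have hu : u.left ≫ pullback.snd H.hom (c.π.app j) = pullback.snd G.hom (c.π.app j) := Over.w u
  apply Over.OverMorphism.ext
  apply pullback.hom_ext
  · rw [Over.comp_left, Over.comp_left, Category.assoc, Category.assoc, thetaIso_hom_left_fst,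
      ← Category.assoc, e1, Category.assoc, ← hθ, Category.assoc, reassoc_of% h6, h4]
  · rw [Over.comp_left, Over.comp_left, Category.assoc, Category.assoc, thetaIso_hom_left_snd,
      e2, hu, thetaIso_hom_left_snd]

end Groth.Agent.H24.GrpLim
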