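import Mathlib

/-!
# Pre-group structures in cartesian monoidal categories (helper24)

A `PreGrp X` is a triple of structure maps without axioms.  For a monoidal functor `F` between
cartesian monoidal categories, `(P.map F).IsGrp` iff `F` identifies the two sides of each group axiom
of `P` (`map_isGrp_iff`).  Transport along isomorphisms (`ofIso`) and compatibility of `map` with
natural isomorphisms `K ≅ F ⋙ F'` (`map_map_eq_ofIso`).
-/

set_option autoImplicit false
universe v₁ v₂ v₃ u₁ u₂ u₃
open CategoryTheory MonoidalCategory CartesianMonoidalCategory MonObj GrpObj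

namespace Groth.Agent.H24.GrpLim

section defs
variable {C : Type u₁} [Category.{v₁} C] [CartesianMonoidalCategory C]

/-- structure maps of a group object, without axioms -/
@[ext]
structure PreGrp (X : C) where
  mul : X ⊗ X ⟶ X
  one : 𝟙_ C ⟶ X
  inv : X ⟶ X

namespace PreGrp
variable {X : C} (P : PreGrp X)

def oneMulL : 𝟙_ C ⊗ X ⟶ X := P.one ▷ X ≫ P.mul
def mulOneL : X ⊗ 𝟙_ C ⟶ X := X ◁ P.one ≫ P.mul
def assocL : (X ⊗ X) ⊗ X ⟶ X := P.mul ▷ X ≫ P.mul
def assocR : (X ⊗ X) ⊗ X ⟶ X := (α_ X X X).hom ≫ X ◁ P.mul ≫ P.mul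
def leftInvL : X ⟶ X := lift P.inv (𝟙 X) ≫ P.mul
def rightInvL : X ⟶ X := lift (𝟙 X) P.inv ≫ P.mul
def unitR : X ⟶ X := toUnit X ≫ P.one

/-- the group axioms -/
structure IsGrp : Prop where
  one_mul : P.oneMulL = (λ_ X).hom
  mul_one : P.mulOneL = (ρ_ X).hom
  assoc : P.assocL = P.assocR
  left_inv : P.leftInvL = P.unitR
  right_inv : P.rightInvL = P.unitR

/-- the group object attached to a pre-group structure satisfying the axioms -/
@[reducible] def toGrpObj (h : P.IsGrp) : GrpObj X where
  one := P.one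
  mul := P.mul
  one_mul := h.one_mul
  mul_one := h.mul_one
  mul_assoc := h.assoc
  inv := P.inv
  left_inv := h.left_inv
  right_inv := h.right_inv

/-- the underlying pre-group structure of a group object -/
def ofGrpObj (X : C) [GrpObj X] : PreGrp X := ⟨μ[X], η[X], ι[X]⟩

theorem isGrp_ofGrpObj (X : C) [GrpObj X] : (ofGrpObj X).IsGrp where
  one_mul := MonObj.one_mul X
  mul_one := MonObj.mul_one X
  assoc := MonObj.mul_assoc X
  left_inv := GrpObj.left_inv X
  right_inv := GrpObj.right_inv X

/-- transport along an isomorphism -/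
def ofIso {Y : C} (e : X ≅ Y) : PreGrp Y :=
  ⟨(e.inv ⊗ₘ e.inv) ≫ P.mul ≫ e.hom, P.one ≫ e.hom, e.inv ≫ P.inv ≫ e.hom⟩

theorem isGrp_ofIso {Y : C} (e : X ≅ Y) (h : P.IsGrp) : (P.ofIso e).IsGrp := by
  let _ : GrpObj X := P.toGrpObj h
  let _ : GrpObj Y := GrpObj.ofIso e
  exact isGrp_ofGrpObj Y

end PreGrp
end defs

section functor
variable {C : Type u₁} [Category.{v₁} C] [CartesianMonoidalCategory C]
  {D : Type u₂} [Category.{v₂} D] [CartesianMonoidalCategory D]
  (F : C ⥤ D) [F.Monoidal] {X : C} (P : PreGrp X)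

open Functor.LaxMonoidal Functor.Monoidal

namespace PreGrp

/-- image under a monoidal functor -/
def map : PreGrp (F.obj X) :=
  ⟨Functor.LaxMonoidal.μ F X X ≫ F.map P.mul, ε F ≫ F.map P.one, F.map P.inv⟩

theorem map_oneMulL : (P.map F).oneMulL =
    (ε F ▷ F.obj X ≫ Functor.LaxMonoidal.μ F (𝟙_ C) X) ≫ F.map P.oneMulL := by
  simp only [oneMulL, map, comp_whiskerRight, Category.assoc, Functor.map_comp,
    μ_natural_left_assoc]

theorem map_mulOneL : (P.map F).mulOneL =
    (F.obj X ◁ ε F ≫ Functor.LaxMonoidal.μ F X (𝟙_ C)) ≫ F.map P.mulOneL := by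
  simp only [mulOneL, map, MonoidalCategory.whiskerLeft_comp, Category.assoc, Functor.map_comp,
    μ_natural_right_assoc]

theorem map_assocL : (P.map F).assocL =
    (Functor.LaxMonoidal.μ F X X ▷ F.obj X ≫ Functor.LaxMonoidal.μ F (X ⊗ X) X) ≫
      F.map P.assocL := by
  simp only [assocL, map, comp_whiskerRight, Category.assoc, Functor.map_comp,
    μ_natural_left_assoc]

theorem map_assocR : (P.map F).assocR =
    (Functor.LaxMonoidal.μ F X X ▷ F.obj X ≫ Functor.LaxMonoidal.μ F (X ⊗ X) X) ≫
      F.map P.assocR := by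
  simp only [assocR, map, MonoidalCategory.whiskerLeft_comp, Category.assoc, Functor.map_comp,
    μ_natural_right_assoc, associativity_assoc]

theorem map_leftInvL : (P.map F).leftInvL = F.map P.leftInvL := by
  simp only [leftInvL, map, Functor.map_comp]
  rw [← lift_μ_assoc, F.map_id]

theorem map_rightInvL : (P.map F).rightInvL = F.map P.rightInvL := by
  simp only [rightInvL, map, Functor.map_comp]
  rw [← lift_μ_assoc, F.map_id]

theorem map_unitR : (P.map F).unitR = F.map P.unitR := by
  simp only [unitR, map, Functor.map_comp]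
  rw [← toUnit_ε_assoc]

theorem map_isGrp_iff : (P.map F).IsGrp ↔
    F.map P.oneMulL = F.map (λ_ X).hom ∧ F.map P.mulOneL = F.map (ρ_ X).hom ∧
      F.map P.assocL = F.map P.assocR ∧ F.map P.leftInvL = F.map P.unitR ∧
        F.map P.rightInvL = F.map P.unitR := by
  constructor
  · intro h
    refine ⟨?_, ?_, ?_, ?_, ?_⟩
    · have := h.one_mul
      rw [map_oneMulL, left_unitality, ← Category.assoc] at this
      exact (cancel_epi _).mp this
    · have := h.mul_one
      rw [map_mulOneL, right_unitality, ← Category.assoc] at this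
      exact (cancel_epi _).mp this
    · have := h.assoc
      rw [map_assocL, map_assocR] at this
      exact (cancel_epi _).mp this
    · have := h.left_inv
      rwa [map_leftInvL, map_unitR] at this
    · have := h.right_inv
      rwa [map_rightInvL, map_unitR] at this
  · rintro ⟨h1, h2, h3, h4, h5⟩
    refine ⟨?_, ?_, ?_, ?_, ?_⟩
    · rw [map_oneMulL, left_unitality, h1, Category.assoc]
    · rw [map_mulOneL, right_unitality, h2, Category.assoc]
    · rw [map_assocL, map_assocR, h3]
    · rw [map_leftInvL, map_unitR, h4]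
    · rw [map_rightInvL, map_unitR, h5]

end PreGrp
end functor

section natiso
variable {C : Type u₁} [Category.{v₁} C] [CartesianMonoidalCategory C]
  {D : Type u₂} [Category.{v₂} D] [CartesianMonoidalCategory D]
  {E : Type u₃} [Category.{v₃} E] [CartesianMonoidalCategory E]
  (F : C ⥤ D) (F' : D ⥤ E) (K : C ⥤ E) [F.Monoidal] [F'.Monoidal] [K.Monoidal]

open Functor.LaxMonoidal Functor.Monoidal

theorem PreGrp.map_map_eq_ofIso (θ : K ≅ F ⋙ F') {X : C} (P : PreGrp X) :
    (P.map F).map F' = (P.map K).ofIso (θ.app X) := by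
  have hmon : NatTrans.IsMonoidal θ.hom := inferInstance
  ext
  · have h1 := NatTrans.IsMonoidal.tensor (τ := θ.hom) X X
    have h2 := θ.hom.naturality P.mul
    simp only [PreGrp.map, PreGrp.ofIso, Iso.app_hom, Iso.app_inv, Functor.map_comp,
      Category.assoc]
    rw [h2, reassoc_of% h1]
    simp only [Functor.comp_obj, Functor.comp_map, Functor.LaxMonoidal.comp_μ, Category.assoc]
    rw [MonoidalCategory.tensorHom_comp_tensorHom_assoc, Iso.inv_hom_id_app]
    simp
  · have h1 := NatTrans.IsMonoidal.unit (τ := θ.hom)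
    have h2 := θ.hom.naturality P.one
    simp only [PreGrp.map, PreGrp.ofIso, Iso.app_hom, Functor.map_comp, Category.assoc]
    rw [h2, reassoc_of% h1]
    simp
  · have h2 := θ.hom.naturality P.inv
    simp only [PreGrp.map, PreGrp.ofIso, Iso.app_hom, Iso.app_inv]
    rw [h2]
    simp

end natiso

end Groth.Agent.H24.GrpLim
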