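import Groth.Agent.H24.GrpLim.PreGrp
import Groth.Agent.H24.GrpLim.Normal

/-!
# Subgroup objects via factorizations through a monomorphism (helper24)

For `inc : H ⟶ G` into a group object of a cartesian monoidal category, `SubgrpData inc` says that the
product, unit and inverse of `G` restricted to `H` factor through `inc`.  If `inc` is mono this gives a
group structure on `H` for which `inc` is a homomorphism.  Behaviour under monoidal functors.
-/

set_option autoImplicit false
universe v₁ v₂ u₁ u₂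
open CategoryTheory MonoidalCategory CartesianMonoidalCategory MonObj GrpObj

namespace Groth.Agent.H24.GrpLim

section defs
variable {C : Type u₁} [Category.{v₁} C] [CartesianMonoidalCategory C]

/-- `x` factors through `inc` -/
def Factors {A H G : C} (x : A ⟶ G) (inc : H ⟶ G) : Prop := ∃ y : A ⟶ H, x = y ≫ inc

variable {H G : C} [GrpObj G] (inc : H ⟶ G)

/-- product of `G` restricted to `H` -/
def mulRestr : H ⊗ H ⟶ G := (inc ⊗ₘ inc) ≫ μ[G]

/-- inverse of `G` restricted to `H` -/
def invRestr : H ⟶ G := inc ≫ ι[G]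

/-- universal conjugate, without a group structure on the source -/
def conjRestr : G ⊗ H ⟶ G := fst G H * (snd G H ≫ inc) * (fst G H)⁻¹

/-- the structure maps of `G` restrict to `H` -/
def SubgrpData : Prop :=
  Factors (mulRestr inc) inc ∧ Factors (η[G] : 𝟙_ C ⟶ G) inc ∧ Factors (invRestr inc) inc

theorem PreGrp.isGrp_of_mono [Mono inc] (P : PreGrp H) (hm : P.mul ≫ inc = (inc ⊗ₘ inc) ≫ μ[G])
    (h1 : P.one ≫ inc = η[G]) (hi : P.inv ≫ inc = inc ≫ ι[G]) : P.IsGrp where
  one_mul := by
    rw [← cancel_mono inc]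
    simp only [PreGrp.oneMulL, Category.assoc, hm]
    rw [← MonoidalCategory.tensorHom_id, MonoidalCategory.tensorHom_comp_tensorHom_assoc, h1,
      Category.id_comp]
    have : (η[G] ⊗ₘ inc) = (𝟙_ C ◁ inc) ≫ (η[G] ▷ G) := by
      rw [← MonoidalCategory.id_tensorHom, ← MonoidalCategory.tensorHom_id,
        MonoidalCategory.tensorHom_comp_tensorHom, Category.id_comp, Category.comp_id]
    rw [this, Category.assoc, MonObj.one_mul]
    simp
  mul_one := by
    rw [← cancel_mono inc]
    simp only [PreGrp.mulOneL, Category.assoc, hm]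
    rw [← MonoidalCategory.id_tensorHom, MonoidalCategory.tensorHom_comp_tensorHom_assoc, h1,
      Category.id_comp]
    have : (inc ⊗ₘ η[G]) = (inc ▷ 𝟙_ C) ≫ (G ◁ η[G]) := by
      rw [← MonoidalCategory.id_tensorHom, ← MonoidalCategory.tensorHom_id,
        MonoidalCategory.tensorHom_comp_tensorHom, Category.id_comp, Category.comp_id]
    rw [this, Category.assoc, MonObj.mul_one]
    simp
  assoc := by
    rw [← cancel_mono inc]
    simp only [PreGrp.assocL, PreGrp.assocR, Category.assoc, hm]
    rw [← MonoidalCategory.tensorHom_id, MonoidalCategory.tensorHom_comp_tensorHom_assoc, hm,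
      Category.id_comp, ← MonoidalCategory.id_tensorHom,
      MonoidalCategory.tensorHom_comp_tensorHom_assoc, hm, Category.id_comp]
    have e1 : ((inc ⊗ₘ inc) ≫ μ[G] ⊗ₘ inc) = ((inc ⊗ₘ inc) ⊗ₘ inc) ≫ (μ[G] ▷ G) := by
      rw [← MonoidalCategory.tensorHom_id, MonoidalCategory.tensorHom_comp_tensorHom,
        Category.comp_id]
    have e2 : (inc ⊗ₘ (inc ⊗ₘ inc) ≫ μ[G]) = (inc ⊗ₘ (inc ⊗ₘ inc)) ≫ (G ◁ μ[G]) := by
      rw [← MonoidalCategory.id_tensorHom, MonoidalCategory.tensorHom_comp_tensorHom,
        Category.comp_id]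
    rw [e1, e2, Category.assoc, Category.assoc, MonObj.mul_assoc,
      MonoidalCategory.associator_naturality_assoc]
  left_inv := by
    rw [← cancel_mono inc]
    simp only [PreGrp.leftInvL, PreGrp.unitR, Category.assoc, hm, h1]
    rw [lift_map_assoc, hi, Category.id_comp]
    have : lift (inc ≫ ι[G]) inc = inc ≫ lift ι[G] (𝟙 G) := by simp
    rw [this, Category.assoc, GrpObj.left_inv]
    rw [← Category.assoc]
    congr 1
    exact toUnit_unique _ _
  right_inv := by
    rw [← cancel_mono inc]
    simp only [PreGrp.rightInvL, PreGrp.unitR, Category.assoc, hm, h1]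
    rw [lift_map_assoc, hi, Category.id_comp]
    have : lift inc (inc ≫ ι[G]) = inc ≫ lift (𝟙 G) ι[G] := by simp
    rw [this, Category.assoc, GrpObj.right_inv]
    rw [← Category.assoc]
    congr 1
    exact toUnit_unique _ _

theorem exists_grpObj_of_subgrpData [Mono inc] (h : SubgrpData inc) :
    ∃ _ : GrpObj H, IsMonHom inc := by
  obtain ⟨⟨m, hm⟩, ⟨e, he⟩, ⟨v, hv⟩⟩ := h
  let P : PreGrp H := ⟨m, e, v⟩
  have hP : P.IsGrp := PreGrp.isGrp_of_mono inc P hm.symm he.symm hv.symm
  refine ⟨P.toGrpObj hP, ?_⟩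
  letI := P.toGrpObj hP
  exact ⟨he.symm, hm.symm⟩

theorem subgrpData_of_isMonHom [GrpObj H] [IsMonHom inc] : SubgrpData inc := by
  refine ⟨⟨μ[H], ?_⟩, ⟨η[H], ?_⟩, ⟨ι[H], ?_⟩⟩
  · exact (IsMonHom.mul_hom (f := inc)).symm
  · exact (IsMonHom.one_hom (f := inc)).symm
  · simp [invRestr]

theorem isNormalPts_iff_factors [GrpObj H] :
    IsNormalPts inc ↔ Factors (conjRestr inc) inc := isNormalPts_iff inc

end defs

section functor
variable {C : Type u₁} [Category.{v₁} C] [CartesianMonoidalCategory C]
  {D : Type u₂} [Category.{v₂} D] [CartesianMonoidalCategory D]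
  (F : C ⥤ D) [F.Monoidal] {H G : C} [GrpObj G] (inc : H ⟶ G)

open scoped Obj
open Functor.LaxMonoidal Functor.Monoidal

theorem μ_map_mulRestr :
    Functor.LaxMonoidal.μ F H H ≫ F.map (mulRestr inc) = mulRestr (F.map inc) := by
  simp only [mulRestr, Functor.map_comp, Functor.obj.μ_def]
  rw [Functor.LaxMonoidal.μ_natural_assoc]

theorem ε_map_one : ε F ≫ F.map (η[G]) = η[F.obj G] := rfl

theorem map_invRestr : F.map (invRestr inc) = invRestr (F.map inc) := by
  simp only [invRestr, Functor.map_comp, Functor.obj.ι_def]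

theorem μ_map_conjRestr :
    Functor.LaxMonoidal.μ F G H ≫ F.map (conjRestr inc) = conjRestr (F.map inc) := by
  simp only [conjRestr, Functor.map_mul, Functor.map_inv', Functor.map_comp, comp_mul, comp_inv]
  rw [Functor.Monoidal.μ_fst, ← Category.assoc, Functor.Monoidal.μ_snd]

theorem factors_of_epi_comp {A A' H' G' : D} (p : A' ⟶ A) [IsIso p] (x : A ⟶ G') (j : H' ⟶ G') :
    Factors (p ≫ x) j ↔ Factors x j := by
  constructor
  · rintro ⟨y, hy⟩
    exact ⟨inv p ≫ y, by rw [Category.assoc, ← hy, IsIso.inv_hom_id_assoc]⟩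
  · rintro ⟨y, hy⟩
    exact ⟨p ≫ y, by rw [Category.assoc, hy]⟩

theorem subgrpData_map_iff : SubgrpData (F.map inc) ↔
    Factors (F.map (mulRestr inc)) (F.map inc) ∧ Factors (F.map (η[G])) (F.map inc) ∧
      Factors (F.map (invRestr inc)) (F.map inc) := by
  unfold SubgrpData
  rw [← μ_map_mulRestr, ← ε_map_one, ← map_invRestr, factors_of_epi_comp, factors_of_epi_comp]

theorem factors_conjRestr_map_iff :
    Factors (conjRestr (F.map inc)) (F.map inc) ↔ Factors (F.map (conjRestr inc)) (F.map inc) := by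
  rw [← μ_map_conjRestr, factors_of_epi_comp]

end functor

end Groth.Agent.H24.GrpLim
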