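import Groth.Agent.H24.GrpLim.GrpDescend
import Groth.Agent.H24.GrpLim.NormalLim
import Groth.Agent.H24.FEt.Stage
import Groth.Agent.S4805
import Groth.Agent.S2075
import Groth.Agent.S2581

/-!
# Isomorphisms, flat / surjective structure maps over a cofiltered limit: stage lemmas (helper24)
-/

set_option autoImplicit false
universe v₁ v₂ u₁ u₂ u
open CategoryTheory CategoryTheory.Limits MonoidalCategory CartesianMonoidalCategory MonObj GrpObj
  AlgebraicGeometry

namespace Groth.Agent.H24.GrpLim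

section cat
variable {C : Type u₁} [Category.{v₁} C] [CartesianMonoidalCategory C]
  {D : Type u₂} [Category.{v₂} D] [CartesianMonoidalCategory D]
  (F : C ⥤ D) [F.Monoidal]

theorem shear_map {G X : C} (a : G ⊗ X ⟶ X) :
    lift (Functor.LaxMonoidal.μ F G X ≫ F.map a) (snd (F.obj G) (F.obj X)) =
      Functor.LaxMonoidal.μ F G X ≫ F.map (lift a (snd G X)) ≫
        Functor.OplaxMonoidal.δ F X X := by
  rw [Functor.OplaxMonoidal.lift_δ, comp_lift, Functor.Monoidal.μ_snd]

theorem isIso_shear_iff {G X : C} (a : G ⊗ X ⟶ X) :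
    IsIso (lift (Functor.LaxMonoidal.μ F G X ≫ F.map a) (snd (F.obj G) (F.obj X))) ↔
      IsIso (F.map (lift a (snd G X))) := by
  rw [shear_map]
  constructor
  · intro h
    have : F.map (lift a (snd G X)) = Functor.OplaxMonoidal.δ F G X ≫
        (Functor.LaxMonoidal.μ F G X ≫ F.map (lift a (snd G X)) ≫
          Functor.OplaxMonoidal.δ F X X) ≫ Functor.LaxMonoidal.μ F X X := by
      simp only [Category.assoc, Functor.Monoidal.δ_μ, Category.comp_id,
        Functor.Monoidal.δ_μ_assoc]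
    rw [this]; infer_instance
  · intro h; infer_instance

end cat

section ev
variable {I : Type u} [SmallCategory I] [IsCofiltered I] {i₁ j : I}

theorem Ev.comap {P : ∀ k : I, (k ⟶ j) → Prop} (hP : Ev P) (b : i₁ ⟶ j) :
    Ev (fun k (g : k ⟶ i₁) => P k (g ≫ b)) := by
  obtain ⟨i, g, h⟩ := hP
  obtain ⟨w, a', b', hab⟩ := IsCofiltered.cospan g b
  refine ⟨w, b', fun k g' => ?_⟩
  have := h k (g' ≫ a')
  rwa [Category.assoc, hab, ← Category.assoc] at this

end ev

section stage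
variable {I : Type u} [SmallCategory I] [IsCofiltered I]
    (D : I ⥤ Scheme.{u}) (c : Limits.Cone D) (hc : Limits.IsLimit c)
    [∀ (i i' : I) (f : i ⟶ i'), IsAffineHom (D.map f)] [∀ i, CompactSpace (D.obj i)]
    [∀ i, QuasiSeparatedSpace (D.obj i)]
    {j : I} {A B : Over (D.obj j)}
    [LocallyOfFinitePresentation A.hom] [QuasiCompact A.hom] [QuasiSeparated A.hom]
    [LocallyOfFinitePresentation B.hom] [QuasiCompact B.hom] [QuasiSeparated B.hom]

omit [∀ (i i' : I) (f : i ⟶ i'), IsAffineHom (D.map f)]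
  [∀ i, CompactSpace (D.obj i)] [∀ i, QuasiSeparatedSpace (D.obj i)]
  [LocallyOfFinitePresentation A.hom] [QuasiCompact A.hom] [QuasiSeparated A.hom]
  [LocallyOfFinitePresentation B.hom] [QuasiCompact B.hom] [QuasiSeparated B.hom] in
theorem isIso_later (u : A ⟶ B) {i : I} (f : i ⟶ j) [IsIso ((Over.pullback (D.map f)).map u)]
    {k : I} (g : k ⟶ i) : IsIso ((Over.pullback (D.map (g ≫ f))).map u) := by
  rw [map_eq_kappa D g f u]
  infer_instance

omit [∀ (i i' : I) (f : i ⟶ i'), IsAffineHom (D.map f)]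
  [∀ i, CompactSpace (D.obj i)] [∀ i, QuasiSeparatedSpace (D.obj i)]
  [LocallyOfFinitePresentation A.hom] [QuasiCompact A.hom] [QuasiSeparated A.hom]
  [LocallyOfFinitePresentation B.hom] [QuasiCompact B.hom] [QuasiSeparated B.hom] in
theorem isIso_of_stage (u : A ⟶ B) {i : I} (f : i ⟶ j) [IsIso ((Over.pullback (D.map f)).map u)] :
    IsIso ((Over.pullback (c.π.app j)).map u) := by
  rw [map_eq_theta D c f u]
  infer_instance

include hc in
theorem exists_isIso_stage (u : A ⟶ B) [IsIso ((Over.pullback (c.π.app j)).map u)] :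
    Ev (fun k (g : k ⟶ j) => IsIso ((Over.pullback (D.map g)).map u)) := by
  haveI : IsIso ((Over.pullback (c.π.app j)).map u).left :=
    inferInstanceAs (IsIso ((Over.forget _).map ((Over.pullback (c.π.app j)).map u)))
  haveI : LocallyOfFinitePresentation (u.left ≫ B.hom) := by rw [Over.w u]; infer_instance
  haveI : QuasiCompact (u.left ≫ B.hom) := by rw [Over.w u]; infer_instance
  haveI : QuasiSeparated (u.left ≫ B.hom) := by rw [Over.w u]; infer_instance
  obtain ⟨i, φ, Xi, Yi, fi, gi, pY, pX, hYi, hXi, hiso⟩ :=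
    Groth.Agent.S4805.result D c hc j u.left B.hom ((Over.pullback (c.π.app j)).map u).left
      (pullback.snd B.hom (c.π.app j)) (pullback.fst B.hom (c.π.app j))
      (pullback.fst A.hom (c.π.app j)) (IsPullback.of_hasPullback _ _)
      (isPullback_map_left (c.π.app j) u)
  have hm : IsIso ((Over.pullback (D.map φ)).map u).left :=
    (Groth.Agent.H24.prop_iff_of_isPullback (MorphismProperty.isomorphisms Scheme.{u})
      hYi.isoPullback hYi.isoPullback_hom_fst hXi (isPullback_map_left (D.map φ) u)).mp hiso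
  haveI : IsIso ((Over.forget _).map ((Over.pullback (D.map φ)).map u)) := hm
  haveI : IsIso ((Over.pullback (D.map φ)).map u) :=
    isIso_of_reflects_iso _ (Over.forget _)
  exact ⟨i, φ, fun k g => isIso_later D u φ g⟩

include hc in
theorem exists_flat_stage (A : Over (D.obj j))
    [LocallyOfFinitePresentation A.hom] [QuasiCompact A.hom] [QuasiSeparated A.hom]
    (h : Flat (Red.bc (c.π.app j) A).hom) :
    Ev (fun k (g : k ⟶ j) => Flat (Red.bc (D.map g) A).hom) := by
  haveI : CompactSpace ↥A.left := QuasiCompact.compactSpace_of_compactSpace A.hom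
  haveI : QuasiSeparatedSpace ↥A.left := quasiSeparatedSpace_of_quasiSeparated A.hom
  haveI : Flat (pullback.snd A.hom (c.π.app j)) := h
  have hY : IsPullback (c.π.app j) (𝟙 c.pt) (𝟙 (D.obj j)) (c.π.app j) := IsPullback.id_vert _
  obtain ⟨i, φ, Xi, Yi, fi, gi, pY, pX, hYi, hXi, hflat⟩ :=
    Groth.Agent.S2075.result D c hc j A.hom (𝟙 (D.obj j)) (pullback.snd A.hom (c.π.app j))
      (𝟙 c.pt) (c.π.app j) (pullback.fst A.hom (c.π.app j)) hY (IsPullback.of_hasPullback _ _)
  exact ⟨i, φ, fun k g => Groth.Agent.H24.FEtLim.prop_snd_of_row D @Flat φ A.hom fi gi pY pX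
    hYi hXi hflat g⟩

include hc in
theorem exists_surjective_stage (A : Over (D.obj j))
    [LocallyOfFinitePresentation A.hom] [QuasiCompact A.hom] [QuasiSeparated A.hom]
    (h : Surjective (Red.bc (c.π.app j) A).hom) :
    Ev (fun k (g : k ⟶ j) => Surjective (Red.bc (D.map g) A).hom) := by
  haveI : Surjective (pullback.snd A.hom (c.π.app j)) := h
  have hY : IsPullback (c.π.app j) (𝟙 c.pt) (𝟙 (D.obj j)) (c.π.app j) := IsPullback.id_vert _
  haveI : LocallyOfFinitePresentation (𝟙 (D.obj j)) := by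
    have : IsOpenImmersion (𝟙 (D.obj j)) := inferInstance
    infer_instance
  haveI : LocallyOfFinitePresentation (A.hom ≫ 𝟙 (D.obj j)) := by
    rw [Category.comp_id]; infer_instance
  haveI : QuasiCompact (A.hom ≫ 𝟙 (D.obj j)) := by rw [Category.comp_id]; infer_instance
  haveI : QuasiSeparated (A.hom ≫ 𝟙 (D.obj j)) := by rw [Category.comp_id]; infer_instance
  obtain ⟨i, φ, Xi, Yi, fi, gi, pY, pX, hYi, hXi, hsurj⟩ :=
    Groth.Agent.S2581.result D c hc j A.hom (𝟙 (D.obj j)) (pullback.snd A.hom (c.π.app j))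
      (𝟙 c.pt) (c.π.app j) (pullback.fst A.hom (c.π.app j)) hY (IsPullback.of_hasPullback _ _)
  exact ⟨i, φ, fun k g => Groth.Agent.H24.FEtLim.prop_snd_of_row D @Surjective φ A.hom fi gi pY pX
    hYi hXi hsurj g⟩

end stage

section torsor
variable {I : Type u} [SmallCategory I] [IsCofiltered I]
    (D : I ⥤ Scheme.{u}) (c : Limits.Cone D) (hc : Limits.IsLimit c)
    [∀ (i i' : I) (f : i ⟶ i'), IsAffineHom (D.map f)] [∀ i, CompactSpace (D.obj i)]
    [∀ i, QuasiSeparatedSpace (D.obj i)]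

/-- the fppf-covering condition on the structure morphism of `X` -/
def FppfCov {S : Scheme.{u}} (X : Over S) : Prop :=
  ∃ (Z : Scheme.{u}) (v : Z ⟶ S) (w : Z ⟶ X.left), w ≫ X.hom = v ∧
    Flat v ∧ Surjective v ∧ LocallyOfFinitePresentation v ∧ QuasiCompact v ∧ QuasiSeparated v

theorem FppfCov.of_over {S : Scheme.{u}} {X Z : Over S} (w : Z ⟶ X) (h1 : Flat Z.hom)
    (h2 : Surjective Z.hom) (h3 : LocallyOfFinitePresentation Z.hom) (h4 : QuasiCompact Z.hom)
    (h5 : QuasiSeparated Z.hom) : FppfCov X :=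
  ⟨Z.left, Z.hom, w.left, Over.w w, h1, h2, h3, h4, h5⟩

omit [IsCofiltered I] [∀ (i i' : I) (f : i ⟶ i'), IsAffineHom (D.map f)]
  [∀ i, CompactSpace (D.obj i)] [∀ i, QuasiSeparatedSpace (D.obj i)] in
theorem fppfCov_of_stage {j i : I} (f : i ⟶ j) (X : Over (D.obj j))
    (h : FppfCov (Red.bc (D.map f) X)) : FppfCov (Red.bc (c.π.app j) X) := by
  obtain ⟨Z, v, w, hw, h1, h2, h3, h4, h5⟩ := h
  let Zi : Over (D.obj i) := Over.mk v
  let wi : Zi ⟶ Red.bc (D.map f) X := Over.homMk w hw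
  refine FppfCov.of_over (Z := Red.bc (c.π.app i) Zi)
    ((Over.pullback (c.π.app i)).map wi ≫ (thetaIso D c f X).hom) ?_ ?_ ?_ ?_ ?_
  · exact MorphismProperty.pullback_snd (P := @Flat) _ _ h1
  · exact MorphismProperty.pullback_snd (P := @Surjective) _ _ h2
  · exact MorphismProperty.pullback_snd (P := @LocallyOfFinitePresentation) _ _ h3
  · exact MorphismProperty.pullback_snd (P := @QuasiCompact) _ _ h4
  · exact MorphismProperty.pullback_snd (P := @QuasiSeparated) _ _ h5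

include hc in
theorem exists_fppfCov_stage {j : I} (X : Over (D.obj j))
    [LocallyOfFinitePresentation X.hom] [QuasiCompact X.hom] [QuasiSeparated X.hom]
    (h : FppfCov (Red.bc (c.π.app j) X)) :
    Ev (fun k (g : k ⟶ j) => FppfCov (Red.bc (D.map g) X)) := by
  obtain ⟨Z, v, w, hw, h1, h2, h3, h4, h5⟩ := h
  haveI := h3; haveI := h4; haveI := h5
  obtain ⟨i₀, Z₀, z₀, g₀, hfp, hqc, hqs, hpb⟩ := Groth.Agent.S0591.result D c hc Z v
  let Z0 : Over (D.obj i₀) := Over.mk z₀
  haveI : LocallyOfFinitePresentation Z0.hom := hfp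
  haveI : QuasiCompact Z0.hom := hqc
  haveI : QuasiSeparated Z0.hom := hqs
  obtain ⟨i₁, a, b, -⟩ : ∃ (i₁ : I) (a : i₁ ⟶ i₀) (b : i₁ ⟶ j), True :=
    ⟨IsCofiltered.min i₀ j, IsCofiltered.minToLeft _ _, IsCofiltered.minToRight _ _, trivial⟩
  let Z₁ : Over (D.obj i₁) := Red.bc (D.map a) Z0
  let X₁ : Over (D.obj i₁) := Red.bc (D.map b) X
  obtain ⟨s1, s2, s3, s4, s5⟩ := bc_instances (D.map a) Z0
  obtain ⟨r1, r2, r3, r4, r5⟩ := bc_instances (D.map b) X
  haveI : CompactSpace ↥Z₁.left := s1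
  haveI : QuasiSeparatedSpace ↥Z₁.left := s2
  haveI : LocallyOfFinitePresentation Z₁.hom := s3
  haveI : QuasiCompact Z₁.hom := s4
  haveI : QuasiSeparated Z₁.hom := s5
  haveI : CompactSpace ↥X₁.left := r1
  haveI : QuasiSeparatedSpace ↥X₁.left := r2
  haveI : LocallyOfFinitePresentation X₁.hom := r3
  let Zc : Over c.pt := Over.mk v
  let e₀ : Zc ≅ Red.bc (c.π.app i₀) Z0 :=
    Over.isoMk hpb.isoPullback (by
      show hpb.isoPullback.hom ≫ pullback.snd z₀ (c.π.app i₀) = v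
      exact hpb.isoPullback_hom_snd)
  let eZ : Zc ≅ Red.bc (c.π.app i₁) Z₁ := e₀ ≪≫ (thetaIso D c a Z0).symm
  let wc : Zc ⟶ Red.bc (c.π.app j) X := Over.homMk w hw
  let u : Red.bc (c.π.app i₁) Z₁ ⟶ Red.bc (c.π.app i₁) X₁ :=
    eZ.inv ≫ wc ≫ (thetaIso D c b X).inv
  obtain ⟨i₂, f₂, h₂⟩ := exists_map_eq_conj'' D c hc Z₁ X₁ u
  have hZhom : (Red.bc (c.π.app i₁) Z₁).hom = eZ.inv.left ≫ v := (Over.w eZ.inv).symm
  have hflat : Flat (Red.bc (c.π.app i₁) Z₁).hom := by
    rw [hZhom]; infer_instance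
  have hsurj : Surjective (Red.bc (c.π.app i₁) Z₁).hom := by
    rw [hZhom]; infer_instance
  have E2 : Ev (fun k (g : k ⟶ i₁) => Nonempty (Red.bc (D.map g) Z₁ ⟶ Red.bc (D.map g) X₁)) :=
    ⟨i₂, f₂, fun k g' => by
      obtain ⟨uk, -⟩ := h₂ k g' (g' ≫ f₂) rfl
      exact ⟨uk⟩⟩
  have E3 := exists_flat_stage D c hc Z₁ hflat
  have E4 := exists_surjective_stage D c hc Z₁ hsurj
  obtain ⟨i, g, hi⟩ := (E2.and E3).and E4
  refine ⟨i, g ≫ b, fun k g' => ?_⟩
  obtain ⟨⟨⟨uk⟩, hfl⟩, hsj⟩ := hi k g'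
  rw [← Category.assoc]
  obtain ⟨q1, q2, q3, q4, q5⟩ := bc_instances (D.map (g' ≫ g)) Z₁
  exact FppfCov.of_over (Z := Red.bc (D.map (g' ≫ g)) Z₁)
    (uk ≫ (kappaIso D (g' ≫ g) b X).inv) hfl hsj q3 q4 q5

end torsor

end Groth.Agent.H24.GrpLim
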