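import Groth.Agent.H24.GrpLim.Subgrp
import Groth.Agent.H24.GrpLim.TorsorLim

/-!
# Closed subgroups over a cofiltered limit descend to a stage (helper24)
-/

set_option autoImplicit false
universe u
open CategoryTheory CategoryTheory.Limits MonoidalCategory CartesianMonoidalCategory MonObj GrpObj
  AlgebraicGeometry

namespace Groth.Agent.H24.GrpLim

section stage
variable {I : Type u} [SmallCategory I] [IsCofiltered I]
    (D : I ⥤ Scheme.{u}) (c : Limits.Cone D) (hc : Limits.IsLimit c)
    [∀ (i i' : I) (f : i ⟶ i'), IsAffineHom (D.map f)]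
    {j : I} [CompactSpace (D.obj j)] [QuasiSeparatedSpace (D.obj j)]

include hc in
/-- a factorization through `inc` over the limit descends to all later stages -/
theorem exists_factor_stage {A H G : Over (D.obj j)}
    [LocallyOfFinitePresentation A.hom] [QuasiCompact A.hom] [QuasiSeparated A.hom]
    [LocallyOfFinitePresentation H.hom] [QuasiCompact H.hom] [QuasiSeparated H.hom]
    [LocallyOfFinitePresentation G.hom] [QuasiCompact G.hom] [QuasiSeparated G.hom]
    (x : A ⟶ G) (inc : H ⟶ G)
    (h : Factors ((Over.pullback (c.π.app j)).map x) ((Over.pullback (c.π.app j)).map inc)) :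
    Ev (fun k (g : k ⟶ j) =>
      Factors ((Over.pullback (D.map g)).map x) ((Over.pullback (D.map g)).map inc)) := by
  obtain ⟨ν, hν⟩ := h
  haveI : CompactSpace ↥A.left := QuasiCompact.compactSpace_of_compactSpace A.hom
  haveI : QuasiSeparatedSpace ↥A.left := quasiSeparatedSpace_of_quasiSeparated A.hom
  haveI : CompactSpace ↥G.left := QuasiCompact.compactSpace_of_compactSpace G.hom
  haveI : QuasiSeparatedSpace ↥G.left := quasiSeparatedSpace_of_quasiSeparated G.hom
  haveI : CompactSpace ↥H.left := QuasiCompact.compactSpace_of_compactSpace H.hom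
  haveI : QuasiSeparatedSpace ↥H.left := quasiSeparatedSpace_of_quasiSeparated H.hom
  obtain ⟨i₁, f₁, ν₁, hν₁⟩ := exists_map_eq_conj D c hc A H ν
  let a := (Over.pullback (D.map f₁)).map x
  let b := ν₁ ≫ (Over.pullback (D.map f₁)).map inc
  have hab : (Over.pullback (c.π.app i₁)).map a = (Over.pullback (c.π.app i₁)).map b := by
    have ha := thetaIso_naturality D c f₁ x
    have hu := thetaIso_naturality D c f₁ inc
    rw [← cancel_mono (thetaIso D c f₁ G).hom, ha]
    simp only [b, Functor.map_comp, Category.assoc]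
    rw [hu, hν₁]
    simp only [Category.assoc, Iso.inv_hom_id_assoc, hν]
  haveI : CompactSpace ↥(D.obj i₁) := QuasiCompact.compactSpace_of_compactSpace (D.map f₁)
  haveI : QuasiSeparatedSpace ↥(D.obj i₁) := quasiSeparatedSpace_of_quasiSeparated (D.map f₁)
  obtain ⟨s1, s2, s3, s4, s5⟩ := bc_instances (D.map f₁) A
  obtain ⟨r1, r2, r3, r4, r5⟩ := bc_instances (D.map f₁) G
  haveI := s1; haveI := s2; haveI := s3; haveI := r1; haveI := r2; haveI := r3
  obtain ⟨i₂, g₂, h₂⟩ := exists_map_eq D c hc (Red.bc (D.map f₁) A) (Red.bc (D.map f₁) G)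
    a b hab
  refine ⟨i₂, g₂ ≫ f₁, fun k g => ?_⟩
  have hk := h₂ k g
  rw [← Category.assoc]
  refine ⟨(kappaIso D (g ≫ g₂) f₁ A).hom ≫ (Over.pullback (D.map (g ≫ g₂))).map ν₁ ≫
    (kappaIso D (g ≫ g₂) f₁ H).inv, ?_⟩
  rw [map_eq_kappa D (g ≫ g₂) f₁ x, map_eq_kappa D (g ≫ g₂) f₁ inc]
  simp only [Category.assoc, Iso.inv_hom_id_assoc]
  rw [hk]
  simp only [b, Functor.map_comp, Category.assoc]

variable {H G : Over (D.obj j)} [GrpObj G]
    [LocallyOfFinitePresentation H.hom] [QuasiCompact H.hom] [QuasiSeparated H.hom]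
    [LocallyOfFinitePresentation G.hom] [QuasiCompact G.hom] [QuasiSeparated G.hom]

include hc in
theorem exists_subgrpData_stage (inc : H ⟶ G)
    (h : SubgrpData ((Over.pullback (c.π.app j)).map inc)) :
    Ev (fun k (g : k ⟶ j) => SubgrpData ((Over.pullback (D.map g)).map inc)) := by
  obtain ⟨h1, h2, h3⟩ := (subgrpData_map_iff _ inc).mp h
  obtain ⟨t1, t2, t3⟩ := tensor_instances H H
  haveI := t1; haveI := t2; haveI := t3
  haveI : LocallyOfFinitePresentation (𝟙_ (Over (D.obj j))).hom := by
    rw [Over.tensorUnit_hom]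
    have : IsOpenImmersion (𝟙 (D.obj j)) := inferInstance
    infer_instance
  haveI : QuasiCompact (𝟙_ (Over (D.obj j))).hom := by
    rw [Over.tensorUnit_hom]
    have : IsOpenImmersion (𝟙 (D.obj j)) := inferInstance
    have : IsIso (𝟙 (D.obj j)) := inferInstance
    infer_instance
  haveI : QuasiSeparated (𝟙_ (Over (D.obj j))).hom := by
    rw [Over.tensorUnit_hom]
    have : IsIso (𝟙 (D.obj j)) := inferInstance
    infer_instance
  have E1 := exists_factor_stage D c hc (mulRestr inc) inc h1
  have E2 := exists_factor_stage D c hc (η[G]) inc h2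
  have E3 := exists_factor_stage D c hc (invRestr inc) inc h3
  obtain ⟨i, f, hi⟩ := (E1.and E2).and E3
  refine ⟨i, f, fun k g => ?_⟩
  show SubgrpData ((Over.pullback (D.map (g ≫ f))).map inc)
  rw [subgrpData_map_iff]
  obtain ⟨⟨k1, k2⟩, k3⟩ := hi k g
  exact ⟨k1, k2, k3⟩

include hc in
theorem exists_conjRestr_stage (inc : H ⟶ G)
    (h : Factors (conjRestr ((Over.pullback (c.π.app j)).map inc))
      ((Over.pullback (c.π.app j)).map inc)) :
    Ev (fun k (g : k ⟶ j) => Factors (conjRestr ((Over.pullback (D.map g)).map inc))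
      ((Over.pullback (D.map g)).map inc)) := by
  rw [factors_conjRestr_map_iff] at h
  obtain ⟨t1, t2, t3⟩ := tensor_instances G H
  haveI := t1; haveI := t2; haveI := t3
  obtain ⟨i, f, hi⟩ := exists_factor_stage D c hc (conjRestr inc) inc h
  refine ⟨i, f, fun k g => ?_⟩
  show Factors (conjRestr ((Over.pullback (D.map (g ≫ f))).map inc))
      ((Over.pullback (D.map (g ≫ f))).map inc)
  rw [factors_conjRestr_map_iff]
  exact hi k g

end stage

end Groth.Agent.H24.GrpLim
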