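import Groth.Agent.H24.GrpLim.NormalLim
import Groth.Agent.H24.GrpLim.PreGrp

/-!
# `thetaIso` as a natural isomorphism; fullness at all later stages (helper24)
-/

set_option autoImplicit false
universe u
open CategoryTheory CategoryTheory.Limits MonoidalCategory CartesianMonoidalCategory MonObj GrpObj
  AlgebraicGeometry

namespace Groth.Agent.H24.GrpLim

variable {I : Type u} [SmallCategory I] [IsCofiltered I]
    (D : I ⥤ Scheme.{u}) (c : Limits.Cone D)

/-- `thetaIso` as a natural isomorphism of functors. -/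
noncomputable def thetaNat {i j : I} (f : i ⟶ j) :
    Over.pullback (D.map f) ⋙ Over.pullback (c.π.app i) ≅ Over.pullback (c.π.app j) :=
  (Over.pullbackComp (c.π.app i) (D.map f)).symm ≪≫
    eqToIso (congrArg (fun g => Over.pullback g) (c.w f))

theorem thetaNat_app {i j : I} (f : i ⟶ j) (X : Over (D.obj j)) :
    (thetaNat D c f).app X = thetaIso D c f X := by
  ext1
  simp only [thetaNat, thetaIso, Iso.app_hom, Iso.trans_hom, Iso.symm_hom, eqToIso.hom,
    NatTrans.comp_app, eqToHom_app, Iso.app_inv]

theorem thetaNat_hom_app {i j : I} (f : i ⟶ j) (X : Over (D.obj j)) :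
    (thetaNat D c f).hom.app X = (thetaIso D c f X).hom := by
  rw [← thetaNat_app]; rfl

theorem thetaNat_inv_app {i j : I} (f : i ⟶ j) (X : Over (D.obj j)) :
    (thetaNat D c f).inv.app X = (thetaIso D c f X).inv := by
  rw [← thetaNat_app]; rfl

variable (hc : Limits.IsLimit c) [∀ (i i' : I) (f : i ⟶ i'), IsAffineHom (D.map f)]

include hc in
/-- Fullness in the limit, valid at all later stages. -/
theorem exists_map_eq_conj' {j : I} (G H : Over (D.obj j))
    [CompactSpace G.left] [QuasiSeparatedSpace G.left] [LocallyOfFinitePresentation G.hom]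
    [CompactSpace H.left] [QuasiSeparatedSpace H.left] [LocallyOfFinitePresentation H.hom]
    (u : Red.bc (c.π.app j) G ⟶ Red.bc (c.π.app j) H) :
    ∃ (i : I) (f : i ⟶ j), ∀ (k : I) (g : k ⟶ i),
      ∃ uk : Red.bc (D.map (g ≫ f)) G ⟶ Red.bc (D.map (g ≫ f)) H,
        (Over.pullback (c.π.app k)).map uk =
          (thetaIso D c (g ≫ f) G).hom ≫ u ≫ (thetaIso D c (g ≫ f) H).inv := by
  obtain ⟨i, f, ui, hui⟩ := exists_map_eq_conj D c hc G H u
  exact ⟨i, f, fun k g => ⟨transport D g f ui, map_transport D c g f u ui hui⟩⟩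

end Groth.Agent.H24.GrpLim
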