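import Groth.Agent.H24.GrpLim.OverLim

/-!
# Transporting a descended morphism to a later stage (helper24)
-/

set_option autoImplicit false
universe u
open CategoryTheory CategoryTheory.Limits MonoidalCategory CartesianMonoidalCategory MonObj GrpObj
  AlgebraicGeometry

namespace Groth.Agent.H24.GrpLim

variable {I : Type u} [SmallCategory I] [IsCofiltered I]
    (D : I ⥤ Scheme.{u}) (c : Limits.Cone D)

/-- The canonical identification `S_k ×_{S_j} X ≅ S_k ×_{S_i} (S_i ×_{S_j} X)`. -/
noncomputable abbrev kappaIso {k i j : I} (g : k ⟶ i) (f : i ⟶ j) (X : Over (D.obj j)) :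
    Red.bc (D.map (g ≫ f)) X ≅ Red.bc (D.map g) (Red.bc (D.map f) X) :=
  eqToIso (congrArg (fun t => Red.bc t X) (D.map_comp g f)) ≪≫
    (Over.pullbackComp (D.map g) (D.map f)).app X

theorem kappaIso_hom_left_fst_fst {k i j : I} (g : k ⟶ i) (f : i ⟶ j) (X : Over (D.obj j)) :
    (kappaIso D g f X).hom.left ≫ pullback.fst (pullback.snd X.hom (D.map f)) (D.map g) ≫
      pullback.fst X.hom (D.map f) = pullback.fst X.hom (D.map (g ≫ f)) := by
  simp only [kappaIso, Iso.trans_hom, Iso.app_hom, eqToIso.hom, Over.comp_left, Category.assoc]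
  rw [pullbackComp_hom_app_left_fst_fst, eqToHom_pullback_left_fst (D.map_comp g f) X]

theorem kappaIso_hom_left_snd {k i j : I} (g : k ⟶ i) (f : i ⟶ j) (X : Over (D.obj j)) :
    (kappaIso D g f X).hom.left ≫ pullback.snd (pullback.snd X.hom (D.map f)) (D.map g) =
      pullback.snd X.hom (D.map (g ≫ f)) :=
  Over.w (kappaIso D g f X).hom

theorem kappaIso_inv_left_fst {k i j : I} (g : k ⟶ i) (f : i ⟶ j) (X : Over (D.obj j)) :
    (kappaIso D g f X).inv.left ≫ pullback.fst X.hom (D.map (g ≫ f)) =
      pullback.fst (pullback.snd X.hom (D.map f)) (D.map g) ≫ pullback.fst X.hom (D.map f) := by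
  rw [← kappaIso_hom_left_fst_fst, ← Over.comp_left_assoc, Iso.inv_hom_id]
  simp

instance isMonHom_kappaIso_hom {k i j : I} (g : k ⟶ i) (f : i ⟶ j) (G : Over (D.obj j))
    [GrpObj G] : IsMonHom (kappaIso D g f G).hom := by
  have h1 := isMonHom_pullbackComp_hom (D.map g) (D.map f) G
  have h2 := isMonHom_eqToHom_bc (D.map_comp g f) G
  simp only [kappaIso, Iso.trans_hom, Iso.app_hom, eqToIso.hom]
  exact @instIsMonHomComp _ _ _ (Red.bc (D.map (g ≫ f)) G) (Red.bc (D.map g ≫ D.map f) G)
    (Red.bc (D.map g) (Red.bc (D.map f) G)) _ _ _ _ _ h2 h1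

/-- A morphism at stage `i` representing `u`, transported to a later stage `k`. -/
noncomputable def transport {k i j : I} (g : k ⟶ i) (f : i ⟶ j) {G H : Over (D.obj j)}
    (u₁ : Red.bc (D.map f) G ⟶ Red.bc (D.map f) H) :
    Red.bc (D.map (g ≫ f)) G ⟶ Red.bc (D.map (g ≫ f)) H :=
  (kappaIso D g f G).hom ≫ (Over.pullback (D.map g)).map u₁ ≫ (kappaIso D g f H).inv

theorem transport_left_fst {k i j : I} (g : k ⟶ i) (f : i ⟶ j) {G H : Over (D.obj j)}
    (u₁ : Red.bc (D.map f) G ⟶ Red.bc (D.map f) H) :
    (transport D g f u₁).left ≫ pullback.fst H.hom (D.map (g ≫ f)) =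
      (kappaIso D g f G).hom.left ≫ pullback.fst (pullback.snd G.hom (D.map f)) (D.map g) ≫
        u₁.left ≫ pullback.fst H.hom (D.map f) := by
  have e1 : ((Over.pullback (D.map g)).map u₁).left ≫
      pullback.fst (pullback.snd H.hom (D.map f)) (D.map g) =
      pullback.fst (pullback.snd G.hom (D.map f)) (D.map g) ≫ u₁.left :=
    pullback_map_left_fst (D.map g) u₁
  simp only [transport, Over.comp_left, Category.assoc]
  rw [kappaIso_inv_left_fst, reassoc_of% e1]

theorem map_transport {k i j : I} (g : k ⟶ i) (f : i ⟶ j) {G H : Over (D.obj j)}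
    (u : Red.bc (c.π.app j) G ⟶ Red.bc (c.π.app j) H)
    (u₁ : Red.bc (D.map f) G ⟶ Red.bc (D.map f) H)
    (hu₁ : (Over.pullback (c.π.app i)).map u₁ =
      (thetaIso D c f G).hom ≫ u ≫ (thetaIso D c f H).inv) :
    (Over.pullback (c.π.app k)).map (transport D g f u₁) =
      (thetaIso D c (g ≫ f) G).hom ≫ u ≫ (thetaIso D c (g ≫ f) H).inv := by
  rw [← Category.assoc, Iso.eq_comp_inv] at hu₁ ⊢
  -- (P1)
  have e1 : ((Over.pullback (c.π.app i)).map u₁).left ≫
      pullback.fst (pullback.snd H.hom (D.map f)) (c.π.app i) =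
      pullback.fst (pullback.snd G.hom (D.map f)) (c.π.app i) ≫ u₁.left :=
    pullback_map_left_fst (c.π.app i) u₁
  have P1 : pullback.fst (pullback.snd G.hom (D.map f)) (c.π.app i) ≫ u₁.left ≫
      pullback.fst H.hom (D.map f) =
      (thetaIso D c f G).hom.left ≫ u.left ≫ pullback.fst H.hom (c.π.app j) := by
    have := congrArg (fun t => t.left ≫ pullback.fst H.hom (c.π.app j)) hu₁
    simp only [Over.comp_left, Category.assoc] at this
    rw [thetaIso_hom_left_fst, ← Category.assoc, e1, Category.assoc] at this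
    exact this
  have e2 : ((Over.pullback (c.π.app k)).map (transport D g f u₁)).left ≫
      pullback.fst (pullback.snd H.hom (D.map (g ≫ f))) (c.π.app k) =
      pullback.fst (pullback.snd G.hom (D.map (g ≫ f))) (c.π.app k) ≫
        (transport D g f u₁).left :=
    pullback_map_left_fst (c.π.app k) _
  have e3 : ((Over.pullback (c.π.app k)).map (transport D g f u₁)).left ≫
      pullback.snd (pullback.snd H.hom (D.map (g ≫ f))) (c.π.app k) =
      pullback.snd (pullback.snd G.hom (D.map (g ≫ f))) (c.π.app k) :=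
    pullback_map_left_snd (c.π.app k) _
  have hu : u.left ≫ pullback.snd H.hom (c.π.app j) = pullback.snd G.hom (c.π.app j) := Over.w u
  -- τ
  have hcond : (pullback.fst (pullback.snd G.hom (D.map (g ≫ f))) (c.π.app k) ≫
      (kappaIso D g f G).hom.left ≫ pullback.fst (pullback.snd G.hom (D.map f)) (D.map g)) ≫
      pullback.snd G.hom (D.map f) =
      pullback.snd (pullback.snd G.hom (D.map (g ≫ f))) (c.π.app k) ≫ c.π.app i := by
    have c1 : pullback.fst (pullback.snd G.hom (D.map f)) (D.map g) ≫
        pullback.snd G.hom (D.map f) = pullback.snd _ _ ≫ D.map g := pullback.condition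
    have c2 : pullback.fst (pullback.snd G.hom (D.map (g ≫ f))) (c.π.app k) ≫
        pullback.snd G.hom (D.map (g ≫ f)) = pullback.snd _ _ ≫ c.π.app k := pullback.condition
    calc _ = pullback.fst (pullback.snd G.hom (D.map (g ≫ f))) (c.π.app k) ≫
          ((kappaIso D g f G).hom.left ≫
            pullback.snd (pullback.snd G.hom (D.map f)) (D.map g)) ≫ D.map g := by
            simp only [Category.assoc, c1]
      _ = _ := by
            rw [kappaIso_hom_left_snd, ← Category.assoc, c2, Category.assoc, c.w]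
  let τ : pullback (pullback.snd G.hom (D.map (g ≫ f))) (c.π.app k) ⟶
      pullback (pullback.snd G.hom (D.map f)) (c.π.app i) :=
    pullback.lift (pullback.fst (pullback.snd G.hom (D.map (g ≫ f))) (c.π.app k) ≫
      (kappaIso D g f G).hom.left ≫ pullback.fst (pullback.snd G.hom (D.map f)) (D.map g))
      (pullback.snd (pullback.snd G.hom (D.map (g ≫ f))) (c.π.app k)) hcond
  have hτ1 : τ ≫ pullback.fst (pullback.snd G.hom (D.map f)) (c.π.app i) =
      pullback.fst (pullback.snd G.hom (D.map (g ≫ f))) (c.π.app k) ≫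
      (kappaIso D g f G).hom.left ≫ pullback.fst (pullback.snd G.hom (D.map f)) (D.map g) :=
    pullback.lift_fst _ _ _
  have hτ2 : τ ≫ pullback.snd (pullback.snd G.hom (D.map f)) (c.π.app i) =
      pullback.snd (pullback.snd G.hom (D.map (g ≫ f))) (c.π.app k) := pullback.lift_snd _ _ _
  have hτθ : τ ≫ (thetaIso D c f G).hom.left = (thetaIso D c (g ≫ f) G).hom.left := by
    apply pullback.hom_ext
    · rw [Category.assoc, thetaIso_hom_left_fst, ← Category.assoc, hτ1, thetaIso_hom_left_fst]
      simp only [Category.assoc]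
      rw [kappaIso_hom_left_fst_fst]
    · rw [Category.assoc, thetaIso_hom_left_snd, hτ2, thetaIso_hom_left_snd]
  apply Over.OverMorphism.ext
  apply pullback.hom_ext
  · rw [Over.comp_left, Over.comp_left, Category.assoc, Category.assoc, thetaIso_hom_left_fst,
      ← Category.assoc, e2, Category.assoc, transport_left_fst, ← hτθ, Category.assoc, ← P1]
    conv_rhs => rw [← Category.assoc, hτ1]
    simp only [Category.assoc]
  · rw [Over.comp_left, Over.comp_left, Category.assoc, Category.assoc, thetaIso_hom_left_snd,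
      e3, hu, thetaIso_hom_left_snd]

end Groth.Agent.H24.GrpLim
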